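import Groth.Agent.H14KM.ChartGrpd
import Groth.Agent.H14AlgSt.Descent
import Groth.Agent.H14AlgSt.Points
import Groth.Agent.H14FinQuot.LocalCat
import Groth.Agent.H14Fib.Yoneda

/-!
# Descent of maps to sheaves along a flat chart of a stack
-/

set_option autoImplicit false
set_option backward.isDefEq.respectTransparency false
set_option backward.isDefEq.respectTransparency.types false

universe u

open CategoryTheory CategoryTheory.Functor Opposite AlgebraicGeometry CategoryTheory.Limits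
open AlgSp (yon J)

noncomputable section

namespace Groth.Agent.H14KM

open H14Fib H14Stk H14AlgSt
open H14LocalCat (secMor secMor_natural secMor_comp)

variable {S : Scheme.{u}} {𝒳 : AlgSt.Cat S} {U : Over S} {x : FibCat.overCat U ⥤ᵇ 𝒳}

/-- A point of the chart lifting an object along a morphism. -/
def IsChartLift (x : FibCat.overCat U ⥤ᵇ 𝒳) (ω : 𝒳.obj) {W : Over S} (g : W ⟶ 𝒳.p.obj ω)
    (w : W ⟶ U) : Prop :=
  ∃ m : xo x w ⟶ ω, 𝒳.p.IsHomLift g m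

lemma IsChartLift.comp {ω : 𝒳.obj} {W W' : Over S} {g : W ⟶ 𝒳.p.obj ω} {w : W ⟶ U}
    (h : IsChartLift x ω g w) (k : W' ⟶ W) : IsChartLift x ω (k ≫ g) (k ≫ w) := by
  obtain ⟨m, hm⟩ := h
  exact ⟨xm x k rfl ≫ m, homLift_comp' (xm_lift x k rfl) hm⟩

lemma IsChartLift.map {ω ω' : 𝒳.obj} {W : Over S} {g : W ⟶ 𝒳.p.obj ω} {w : W ⟶ U}
    (h : IsChartLift x ω g w) (φ : ω ⟶ ω') : IsChartLift x ω' (g ≫ 𝒳.p.map φ) w := by
  obtain ⟨m, hm⟩ := h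
  exact ⟨m ≫ φ, homLift_comp' hm (IsHomLift.map 𝒳.p φ)⟩

/-- Two lifts of one object along one morphism differ by an arrow. -/
lemma IsChartLift.exists_arr (h𝒳 : FibCat.IsFibGrpd 𝒳.p) {ω : 𝒳.obj} {W : Over S}
    {g : W ⟶ 𝒳.p.obj ω} {w w' : W ⟶ U} (h : IsChartLift x ω g w) (h' : IsChartLift x ω g w') :
    ∃ r : Arr x W, r.s = w ∧ r.t = w' := by
  obtain ⟨m, hm⟩ := h
  obtain ⟨m', hm'⟩ := h'
  have := sc_of_fibGrpd h𝒳 g m'
  exact ⟨⟨w, w', IsCartesian.map 𝒳.p g m' m, inferInstance⟩, rfl, rfl⟩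

/-- The arrows identify the ends. -/
lemma invariant_of_universal (h𝒳 : FibCat.IsFibGrpd 𝒳.p) {R : Over S} (ρ : Arr x R)
    (hρ : ∀ T : Over S, Function.Bijective (fun g : T ⟶ R => Arr.pull h𝒳 g ρ)) {Q : AlgSp.Sp S}
    {f : (yon S).obj U ⟶ Q} (hf : (yon S).map ρ.s ≫ f = (yon S).map ρ.t ≫ f) {T : Over S}
    (r : Arr x T) : (yon S).map r.s ≫ f = (yon S).map r.t ≫ f := by
  rw [← ptOfArr_s h𝒳 ρ hρ r, ← ptOfArr_t h𝒳 ρ hρ r, Functor.map_comp, Functor.map_comp,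
    Category.assoc, Category.assoc, hf]

variable (h𝒳 : AlgSt.IsAlgStack Scheme.fppfPrecoverage 𝒳)
  (hfl : AlgSt.RepByAlgSpWith (AlgSp.LocP @Flat) x)
  (hfp : AlgSt.RepByAlgSpWith (AlgSp.LocP @LocallyOfFinitePresentation) x)
  (hs : AlgSt.RepByAlgSpWith AlgSp.IsSurjectiveMor x)

/-- The sieve of morphisms along which an object lifts to the chart. -/
def liftSieve (x : FibCat.overCat U ⥤ᵇ 𝒳) (ω : 𝒳.obj) : Sieve (𝒳.p.obj ω) where
  arrows W g := ∃ w, IsChartLift x ω g w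
  downward_closed := fun ⟨w, h⟩ k => ⟨k ≫ w, h.comp k⟩

include h𝒳 hfl hfp hs in
/-- Every object lifts to the chart, fppf locally. -/
theorem exists_lift_family (ω : 𝒳.obj) :
    ∃ (ι : Type u) (C : ι → Over S) (c : ∀ i, C i ⟶ 𝒳.p.obj ω),
      (∀ i, Flat (c i).left) ∧ (∀ i, LocallyOfFinitePresentation (c i).left) ∧
      (∀ z : (𝒳.p.obj ω).left, ∃ i, z ∈ Set.range (c i).left) ∧
      ∀ i, ∃ w, IsChartLift x ω (c i) w := by
  have := isFibered_of_fibGrpd h𝒳.isStack.1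
  obtain ⟨y, e, -, he⟩ := exists_fromOver (𝒳 := 𝒳) (U := 𝒳.p.obj ω) (x := ω) rfl
  obtain ⟨ι, C, c, h1, h2, h3, h4⟩ := exists_lift_of_fppf hfl hfp hs _ y
  refine ⟨ι, C, c, h1, h2, h3, fun i => ?_⟩
  obtain ⟨z, ⟨j⟩⟩ := h4 i
  obtain ⟨w, ⟨jw⟩⟩ := exists_overMap_iso z
  let k : BasedFunctor.comp (AlgSt.overMap w) x ≅ BasedFunctor.comp (AlgSt.overMap (c i)) y :=
    (post _ x).mapIso jw.symm ≪≫ j
  let o₁ : Over.mk w ⟶ (AlgSt.overMap w).obj (topObj (C i)) :=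
    Over.homMk (U := Over.mk w) (V := (AlgSt.overMap w).obj (topObj (C i))) (𝟙 _)
      (by change 𝟙 _ ≫ 𝟙 _ ≫ w = w; simp)
  let m₁ : xo x w ⟶ y.obj ((AlgSt.overMap (c i)).obj (topObj (C i))) :=
    x.map o₁ ≫ (isoApp k (topObj (C i))).hom
  let m₂ : y.obj ((AlgSt.overMap (c i)).obj (topObj (C i))) ⟶ y.obj (topObj (𝒳.p.obj ω)) :=
    y.map (Over.homMk (c i) (by change c i ≫ 𝟙 _ = 𝟙 _ ≫ c i; simp))
  have hm₁ : 𝒳.p.IsHomLift (𝟙 (C i)) m₁ := homLift_id_comp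
    (@BasedFunctor.preserves_isHomLift _ _ _ _ x _ _ _ _ (𝟙 (C i)) _
      (IsHomLift.map (Over.forget U) o₁))
    (isoApp_lift k (topObj (C i)))
  have hm₂ : 𝒳.p.IsHomLift (c i) m₂ :=
    @BasedFunctor.preserves_isHomLift _ _ _ _ y _ _ _ _ (c i) _
      (IsHomLift.map (Over.forget (𝒳.p.obj ω))
        (Over.homMk (c i) (by change c i ≫ 𝟙 _ = 𝟙 _ ≫ c i; simp) :
          (AlgSt.overMap (c i)).obj (topObj (C i)) ⟶ topObj (𝒳.p.obj ω)))
  have hl : IsChartLift x ω (c i) w := ⟨m₁ ≫ m₂ ≫ e.hom, by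
    simpa using homLift_comp' hm₁ (homLift_comp' hm₂ he)⟩
  exact ⟨w, hl⟩

include h𝒳 hfl hfp hs in
theorem liftSieve_mem (ω : 𝒳.obj) : liftSieve x ω ∈ J S (𝒳.p.obj ω) := by
  obtain ⟨ι, C, c, h1, h2, h3, h4⟩ := exists_lift_family h𝒳 hfl hfp hs ω
  refine (J S).superset_covering ?_ (H13AlgSp.ofArrows_mem_J c h1 h2 fun z => h3 z)
  rintro W g ⟨V, a, _, ⟨i⟩, rfl⟩
  obtain ⟨w, hw⟩ := h4 i
  exact ⟨a ≫ w, hw.comp a⟩

/-- The restriction of a functor to a sheaf to the chart. -/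
def chartSec {Q : AlgSp.Sp S} (φ : 𝒳 ⥤ᵇ AlgSt.ofSp Q) : (yon S).obj U ⟶ Q :=
  secMor (BasedFunctor.comp x φ) (Over.mk (𝟙 U))

lemma map_chartSec {Q : AlgSp.Sp S} (φ : 𝒳 ⥤ᵇ AlgSt.ofSp Q) {W : Over S} (w : W ⟶ U) :
    (yon S).map w ≫ chartSec (x := x) φ =
      (yon S).map (eqToHom (xo_obj x w).symm) ≫ secMor φ (xo x w) := by
  refine Eq.trans ?_ (secMor_comp x φ (Over.mk w))
  exact secMor_natural (BasedFunctor.comp x φ) (Over.homMk w : Over.mk w ⟶ Over.mk (𝟙 U))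

lemma map_chartSec_of_lift {Q : AlgSp.Sp S} (φ : 𝒳 ⥤ᵇ AlgSt.ofSp Q) {ω : 𝒳.obj} {W : Over S}
    {g : W ⟶ 𝒳.p.obj ω} {w : W ⟶ U} (h : IsChartLift x ω g w) :
    (yon S).map g ≫ secMor φ ω = (yon S).map w ≫ chartSec (x := x) φ := by
  obtain ⟨m, hm⟩ := h
  rw [map_chartSec, ← secMor_natural φ m, ← Category.assoc, ← Functor.map_comp]
  congr 2
  have := IsHomLift.fac 𝒳.p g m
  rw [this]
  simp

lemma chartSec_invariant {Q : AlgSp.Sp S} (φ : 𝒳 ⥤ᵇ AlgSt.ofSp Q) {T : Over S} (r : Arr x T) :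
    (yon S).map r.s ≫ chartSec (x := x) φ = (yon S).map r.t ≫ chartSec (x := x) φ := by
  rw [map_chartSec φ r.s, map_chartSec φ r.t, ← secMor_natural φ r.φ, ← Category.assoc,
    ← Functor.map_comp]
  congr 2
  have := r.lift
  have h2 := IsHomLift.fac' 𝒳.p (𝟙 T) r.φ
  rw [h2]
  simp

include h𝒳 hfl hfp hs in
/-- Functors to a sheaf are determined on the chart. -/
theorem nonempty_iso_of_chartSec {Q : AlgSp.Sp S} {φ ψ : 𝒳 ⥤ᵇ AlgSt.ofSp Q}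
    (h : chartSec (x := x) φ = chartSec (x := x) ψ) : Nonempty (φ ≅ ψ) :=
  H14LocalCat.nonempty_iso fun ω => H14Quot.yon_ext (liftSieve_mem h𝒳 hfl hfp hs ω) fun W g hg => by
    obtain ⟨w, hw⟩ := hg
    rw [map_chartSec_of_lift φ hw, map_chartSec_of_lift ψ hw, h]

lemma chartSec_comp_ofSpMap {Q Q' : AlgSp.Sp S} (π : 𝒳 ⥤ᵇ AlgSt.ofSp Q) (k : Q ⟶ Q') :
    chartSec (x := x) (BasedFunctor.comp π (AlgSt.ofSpMap k)) = chartSec (x := x) π ≫ k :=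
  H14LocalCat.secMor_ofSpMap (BasedFunctor.comp x π) k _

lemma chartSec_eq_of_iso {Q : AlgSp.Sp S} {φ ψ : 𝒳 ⥤ᵇ AlgSt.ofSp Q} (i : φ ≅ ψ) :
    chartSec (x := x) φ = chartSec (x := x) ψ :=
  H14LocalCat.secMor_eq_of_iso ((post _ _).mapIso (Iso.refl x) ≪≫ (Stk.restr x _).mapIso i) _

include h𝒳 hfl hfp hs in
/-- An invariant map on the chart descends to the stack. -/
theorem exists_functor_of_invariant {Q : AlgSp.Sp S} (f : (yon S).obj U ⟶ Q)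
    (hf : ∀ (T : Over S) (r : Arr x T), (yon S).map r.s ≫ f = (yon S).map r.t ≫ f) :
    ∃ π : 𝒳 ⥤ᵇ AlgSt.ofSp Q, chartSec (x := x) π = f := by
  have hF := h𝒳.isStack.1
  have hg : ∀ ω : 𝒳.obj, ∃ a : (yon S).obj (𝒳.p.obj ω) ⟶ Q,
      ∀ ⦃W : Over S⦄ (g : W ⟶ 𝒳.p.obj ω) (w : W ⟶ U), IsChartLift x ω g w →
        (yon S).map g ≫ a = (yon S).map w ≫ f := fun ω => by
    obtain ⟨a, ha⟩ := H14Quot.yon_glue (liftSieve_mem h𝒳 hfl hfp hs ω)
      (fun W g hg => (yon S).map hg.choose ≫ f) (fun W W' k g hg => by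
        obtain ⟨r, h1, h2⟩ := (hg.choose_spec.comp k).exists_arr hF
          ((liftSieve x ω).downward_closed hg k).choose_spec
        rw [← Category.assoc, ← Functor.map_comp, ← h1, hf W' r, h2])
    refine ⟨a, fun W g w hw => ?_⟩
    have hmem : liftSieve x ω g := ⟨w, hw⟩
    obtain ⟨r, h1, h2⟩ := hw.exists_arr hF hmem.choose_spec
    rw [ha g hmem, ← h1, hf W r, h2]
  choose a ha using hg
  have hnat : ∀ {ω ω' : 𝒳.obj} (φ : ω ⟶ ω'), (yon S).map (𝒳.p.map φ) ≫ a ω' = a ω := fun {ω ω'} φ =>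
    H14Quot.yon_ext (liftSieve_mem h𝒳 hfl hfp hs ω) fun W g hg => by
      obtain ⟨w, hw⟩ := hg
      rw [← Category.assoc, ← Functor.map_comp, ha ω' _ w (hw.map φ), ha ω g w hw]
  let π : 𝒳 ⥤ᵇ AlgSt.ofSp Q := H14Stk.mkFun (fun ω => (J S).uliftYonedaEquiv (a ω))
    (fun φ => (H14Quot.equiv_map _ _).trans (congrArg _ (hnat φ)))
  refine ⟨π, ?_⟩
  have hsec : ∀ ω, secMor π ω = a ω := fun ω => by
    rw [secMor, H14Stk.secAt_mkFun, Equiv.symm_apply_apply]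
  have := map_chartSec (x := x) π (𝟙 U)
  rw [CategoryTheory.Functor.map_id, Category.id_comp] at this
  rw [this, hsec]
  refine (ha _ (eqToHom (xo_obj x (𝟙 U)).symm) (𝟙 U) ⟨𝟙 _, ?_⟩).trans ?_
  · exact IsHomLift.of_fac' _ _ _ (xo_obj x (𝟙 U)) rfl (by simp)
  · rw [CategoryTheory.Functor.map_id, Category.id_comp]

end Groth.Agent.H14KM
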