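import Groth.Prelude.Def_Grpd
import Groth.Prelude.Def_W4stkstmodspWNA
import Groth.Agent.H14AlgSt.IsomArr
import Groth.Agent.H14AlgSt.LocQ2
import Groth.Agent.H14Quot.Yon
import Groth.Agent.H13AlgSp.AffineLocal
import Groth.Agent.H12AlgSp.FppfBootstrap

/-!
# The groupoid of a finite locally free chart of a stack
-/

set_option autoImplicit false
set_option backward.isDefEq.respectTransparency false
set_option backward.isDefEq.respectTransparency.types false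

universe u

open CategoryTheory CategoryTheory.Functor Opposite AlgebraicGeometry CategoryTheory.Limits

noncomputable section

namespace Groth.Agent.H14KM

open H14Fib H14Stk H14AlgSt

variable {S : Scheme.{u}} {𝒳 : AlgSt.Cat S} {U : Over S}

/-- Surjective, finite, flat and locally of finite presentation, as in well-nigh affine stacks. -/
abbrev FLF (S : Scheme.{u}) : MorphismProperty (AlgSp.Sp S) :=
  AlgSp.IsSurjectiveMor ⊓ AlgSp.LocP @Flat ⊓ AlgSp.IsFiniteMor ⊓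
    AlgSp.LocP @LocallyOfFinitePresentation

variable {x : FibCat.overCat U ⥤ᵇ 𝒳} (h𝒳 : FibCat.IsFibGrpd 𝒳.p)

/-- The arrows of a finite locally free chart form a scheme, finite locally free over the chart. -/
theorem exists_arrows (hx : AlgSt.RepByAlgSpWith (FLF S) x) :
    ∃ (R : Over S) (ρ : Arr x R), IsFinite ρ.s.left ∧ Flat ρ.s.left ∧
      LocallyOfFinitePresentation ρ.s.left ∧ Surjective ρ.s.left ∧
      ∀ T : Over S, Function.Bijective (fun g : T ⟶ R => Arr.pull h𝒳 g ρ) := by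
  obtain ⟨F, e, he, hP⟩ := hx U x
  obtain ⟨N, ⟨i⟩, ⟨i'⟩⟩ := id (arrFun_isEquivOver (x := x) h𝒳)
  let Φ := BasedFunctor.comp e N
  have hΦ : FibCat.IsEquivOver Φ := isEquivOver_comp he ⟨arrFun x h𝒳, ⟨i'⟩, ⟨i⟩⟩
  let μ := mapOfFun Φ
  have : IsIso μ := isIso_of_isEquivOver _ (isEquivOver_of_iso (isoOfPshMap Φ) hΦ)
  let j : e ≅ BasedFunctor.comp (Stk.ofPshMap μ) (arrFun x h𝒳) :=
    (Stk.restr e _).mapIso i'.symm ≪≫ (post _ (arrFun x h𝒳)).mapIso (isoOfPshMap Φ)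
  let π := AlgSt.spMapOfOver (BasedFunctor.comp e (FibCat.fpFst x x))
  have hπ : ∀ (T : Over S) (y : F.obj.obj.obj (op T)),
      π.hom.app (op T) y = ⟨(μ.app (op T) y).s⟩ := fun T y => by
    have hc : π = AlgSt.spMapOfOver
        (BasedFunctor.comp (BasedFunctor.comp (Stk.ofPshMap μ) (arrFun x h𝒳)) (FibCat.fpFst x x)) :=
      spMapOfOver_congr ((post _ (FibCat.fpFst x x)).mapIso j)
    rw [hc, AlgSt.spMapOfOver_app]
    apply ULift.ext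
    exact Category.id_comp _
  obtain ⟨⟨⟨hs, hfl⟩, hfi⟩, hfp⟩ := hP
  have hfin := H13AlgSp.isFiniteMor_iff.1 (show AlgSp.IsFiniteMor π from hfi)
  have hflat : AlgSp.RepWith @Flat π :=
    H12AlgSp.repWith_of_locP H12AlgSp.etLocal_flat (AlgSp.IsAlgSpace.yon_obj U) hfin.1 hfl
  have hlfp : AlgSp.RepWith @LocallyOfFinitePresentation π :=
    H12AlgSp.repWith_of_locP H12AlgSp.etLocal_lfp (AlgSp.IsAlgSpace.yon_obj U) hfin.1 hfp
  have hsurj : AlgSp.RepWith @Surjective π := H12AlgSp.repWith_surjective_of_map hfin.1 hs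
  obtain ⟨W, c, v, sq⟩ := hfin.rep (𝟙 ((AlgSp.yon S).obj U))
  have : IsIso v := sq.isIso_fst_of_isIso
  obtain ⟨y, hy⟩ : ∃ y : F.obj.obj.obj (op W), y = (AlgSp.J S).uliftYonedaEquiv v := ⟨_, rfl⟩
  let ρ : Arr x W := μ.app (op W) y
  have hρ : ρ.s = c := by
    have h1 : (AlgSp.J S).uliftYonedaEquiv (v ≫ π) =
        (AlgSp.J S).uliftYonedaEquiv ((AlgSp.yon S).map c) :=
      congrArg _ (sq.w.trans (Category.comp_id _))
    rw [GrothendieckTopology.uliftYonedaEquiv_comp, ← hy, hπ] at h1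
    exact (congrArg ULift.down h1).trans (Category.id_comp c)
  refine ⟨W, ρ, hρ ▸ hfin.property _ _ c sq, hρ ▸ hflat.property _ _ c sq,
    hρ ▸ hlfp.property _ _ c sq, hρ ▸ hsurj.property _ _ c sq, fun T => ?_⟩
  have key : ∀ g : T ⟶ W, Arr.pull h𝒳 g ρ =
      μ.app (op T) ((AlgSp.J S).uliftYonedaEquiv ((AlgSp.yon S).map g ≫ v)) := fun g => by
    rw [← H14Quot.equiv_map, ← hy]
    exact (congrArg (fun k => k y) (μ.naturality g.op)).symm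
  have hb : Function.Bijective (μ.app (op T)) := ConcreteCategory.bijective_of_isIso (μ.app (op T))
  constructor
  · intro g g' e'
    have e'' := hb.1 ((key g).symm.trans (Eq.trans e' (key g')))
    exact (AlgSp.yon S).map_injective ((cancel_mono v).1 ((AlgSp.J S).uliftYonedaEquiv.injective e''))
  · intro r
    obtain ⟨z, rfl⟩ := hb.2 r
    obtain ⟨g, hg⟩ := (AlgSp.yon S).map_surjective ((AlgSp.J S).uliftYonedaEquiv.symm z ≫ inv v)
    refine ⟨g, (key g).trans ?_⟩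
    rw [hg, Category.assoc, IsIso.inv_hom_id, Category.comp_id, Equiv.apply_symm_apply]

variable {R : Over S} (ρ : Arr x R)
  (hρ : ∀ T : Over S, Function.Bijective (fun g : T ⟶ R => Arr.pull h𝒳 g ρ))

section Grpd

variable {T T' : Over S}

/-- The point of an arrow. -/
def ptOfArr (r : Arr x T) : T ⟶ R := ((hρ T).2 r).choose

lemma pull_ptOfArr (r : Arr x T) : Arr.pull h𝒳 (ptOfArr h𝒳 ρ hρ r) ρ = r :=
  ((hρ T).2 r).choose_spec

include hρ in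
lemma pt_ext {g g' : T ⟶ R} (h : Arr.pull h𝒳 g ρ = Arr.pull h𝒳 g' ρ) : g = g' := (hρ T).1 h

lemma ptOfArr_eq {g : T ⟶ R} {r : Arr x T} (h : Arr.pull h𝒳 g ρ = r) : ptOfArr h𝒳 ρ hρ r = g :=
  pt_ext h𝒳 ρ hρ ((pull_ptOfArr h𝒳 ρ hρ r).trans h.symm)

lemma comp_ptOfArr (h : T' ⟶ T) (r : Arr x T) :
    h ≫ ptOfArr h𝒳 ρ hρ r = ptOfArr h𝒳 ρ hρ (Arr.pull h𝒳 h r) :=
  (ptOfArr_eq h𝒳 ρ hρ (by rw [Arr.pull_comp, pull_ptOfArr])).symm

lemma ptOfArr_s (r : Arr x T) : ptOfArr h𝒳 ρ hρ r ≫ ρ.s = r.s := by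
  rw [← Arr.pull_s h𝒳 (ptOfArr h𝒳 ρ hρ r) ρ, pull_ptOfArr]

lemma ptOfArr_t (r : Arr x T) : ptOfArr h𝒳 ρ hρ r ≫ ρ.t = r.t := by
  rw [← Arr.pull_t h𝒳 (ptOfArr h𝒳 ρ hρ r) ρ, pull_ptOfArr]

lemma pull_id'' (h : T' ⟶ T) (w : T ⟶ U) :
    Arr.pull h𝒳 h (Arr.id' x w) = Arr.id' x (h ≫ w) :=
  (Arr.eq_pull h𝒳 (Arr.rel_id' rfl)).symm

/-- The product `α ∘ β` of two points of the scheme of arrows. -/
def mul (α β : T ⟶ R) (h : α ≫ ρ.s = β ≫ ρ.t) : T ⟶ R :=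
  ptOfArr h𝒳 ρ hρ (Arr.comp (Arr.pull h𝒳 β ρ) (Arr.pull h𝒳 α ρ)
    (by rw [Arr.pull_t, Arr.pull_s, h]))

lemma comp_mul (l : T' ⟶ T) (α β : T ⟶ R) (h : α ≫ ρ.s = β ≫ ρ.t) :
    l ≫ mul h𝒳 ρ hρ α β h = mul h𝒳 ρ hρ (l ≫ α) (l ≫ β) (by rw [Category.assoc, h, Category.assoc]) := by
  rw [mul, comp_ptOfArr, mul, Arr.pull_comp']
  congr 1
  exact Arr.comp_congr (Arr.pull_comp h𝒳 _ _ _).symm (Arr.pull_comp h𝒳 _ _ _).symm _

lemma mul_congr {α α' β β' : T ⟶ R} (ha : α = α') (hb : β = β') (h : α ≫ ρ.s = β ≫ ρ.t) :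
    mul h𝒳 ρ hρ α β h = mul h𝒳 ρ hρ α' β' (ha ▸ hb ▸ h) := by
  subst ha hb; rfl

lemma mul_s (α β : T ⟶ R) (h : α ≫ ρ.s = β ≫ ρ.t) : mul h𝒳 ρ hρ α β h ≫ ρ.s = β ≫ ρ.s := by
  rw [mul, ptOfArr_s]
  exact Arr.pull_s h𝒳 β ρ

lemma mul_t (α β : T ⟶ R) (h : α ≫ ρ.s = β ≫ ρ.t) : mul h𝒳 ρ hρ α β h ≫ ρ.t = α ≫ ρ.t := by
  rw [mul, ptOfArr_t]
  exact Arr.pull_t h𝒳 α ρ

lemma mul_assoc' (α β γ : T ⟶ R) (h₁ : α ≫ ρ.s = β ≫ ρ.t) (h₂ : β ≫ ρ.s = γ ≫ ρ.t) :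
    mul h𝒳 ρ hρ (mul h𝒳 ρ hρ α β h₁) γ ((mul_s h𝒳 ρ hρ α β h₁).trans h₂) =
      mul h𝒳 ρ hρ α (mul h𝒳 ρ hρ β γ h₂) (h₁.trans (mul_t h𝒳 ρ hρ β γ h₂).symm) := by
  simp only [mul]
  congr 1
  rw [Arr.comp_congr rfl (pull_ptOfArr h𝒳 ρ hρ _), Arr.comp_congr (pull_ptOfArr h𝒳 ρ hρ _) rfl,
    Arr.comp_assoc']

/-- The identity point. -/
def one (w : T ⟶ U) : T ⟶ R := ptOfArr h𝒳 ρ hρ (Arr.id' x w)

lemma comp_one (l : T' ⟶ T) (w : T ⟶ U) : l ≫ one h𝒳 ρ hρ w = one h𝒳 ρ hρ (l ≫ w) := by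
  rw [one, comp_ptOfArr, one, pull_id'']

lemma mul_one' (α : T ⟶ R) {w : T ⟶ U} (hw : α ≫ ρ.s = w) :
    mul h𝒳 ρ hρ α (one h𝒳 ρ hρ w) (by rw [one, ptOfArr_t, hw]; rfl) = α := by
  refine ptOfArr_eq h𝒳 ρ hρ ?_
  simp only [one]
  rw [Arr.comp_congr (pull_ptOfArr h𝒳 ρ hρ (Arr.id' x w)) rfl]
  exact (Arr.id_comp' _ _).symm

lemma one_mul' (α : T ⟶ R) {w : T ⟶ U} (hw : α ≫ ρ.t = w) :
    mul h𝒳 ρ hρ (one h𝒳 ρ hρ w) α (by rw [one, ptOfArr_s, hw]; rfl) = α := by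
  refine ptOfArr_eq h𝒳 ρ hρ ?_
  simp only [one]
  rw [Arr.comp_congr rfl (pull_ptOfArr h𝒳 ρ hρ (Arr.id' x w))]
  exact (Arr.comp_id' _ _).symm

/-- The inverse point. -/
def inverse : R ⟶ R := ptOfArr h𝒳 ρ hρ (Arr.inv' h𝒳 ρ)

lemma inverse_s : inverse h𝒳 ρ hρ ≫ ρ.s = ρ.t := ptOfArr_s h𝒳 ρ hρ _

lemma inverse_t : inverse h𝒳 ρ hρ ≫ ρ.t = ρ.s := ptOfArr_t h𝒳 ρ hρ _

lemma pull_inverse (α : T ⟶ R) :
    Arr.pull h𝒳 (α ≫ inverse h𝒳 ρ hρ) ρ = Arr.inv' h𝒳 (Arr.pull h𝒳 α ρ) := by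
  rw [Arr.pull_comp, inverse, pull_ptOfArr, Arr.pull_inv']

lemma mul_inverse (α : T ⟶ R) :
    mul h𝒳 ρ hρ α (α ≫ inverse h𝒳 ρ hρ) (by rw [Category.assoc, inverse_t]) =
      one h𝒳 ρ hρ (α ≫ ρ.t) := by
  simp only [mul, one]
  congr 1
  rw [Arr.comp_congr (pull_inverse h𝒳 ρ hρ α) rfl]
  refine (Arr.inv_hom' h𝒳 _).trans ?_
  rw [Arr.pull_t]

lemma inverse_mul (α : T ⟶ R) :
    mul h𝒳 ρ hρ (α ≫ inverse h𝒳 ρ hρ) α (by rw [Category.assoc, inverse_s]) =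
      one h𝒳 ρ hρ (α ≫ ρ.s) := by
  simp only [mul, one]
  congr 1
  rw [Arr.comp_congr rfl (pull_inverse h𝒳 ρ hρ α)]
  refine (Arr.hom_inv' h𝒳 _).trans ?_
  rw [Arr.pull_s]

/-- Composable pairs, as a scheme over `S`. -/
abbrev pairs : Over S := Over.mk (pullback.fst ρ.s.left ρ.t.left ≫ R.hom)

/-- The composition. -/
def compHom : pullback ρ.s.left ρ.t.left ⟶ R.left :=
  (mul h𝒳 ρ hρ (T := pairs ρ)
    (Over.homMk (pullback.fst ρ.s.left ρ.t.left) rfl)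
    (Over.homMk (pullback.snd ρ.s.left ρ.t.left) (by
      change pullback.snd ρ.s.left ρ.t.left ≫ R.hom = pullback.fst ρ.s.left ρ.t.left ≫ R.hom
      rw [← Over.w ρ.t, ← Category.assoc, ← pullback.condition, Category.assoc, Over.w ρ.s, Over.w ρ.t]))
    (Over.OverMorphism.ext pullback.condition)).left

include hρ in
lemma over_snd {T₀ : Scheme.{u}} {α β : T₀ ⟶ R.left} (h : α ≫ ρ.s.left = β ≫ ρ.t.left) :
    β ≫ R.hom = α ≫ R.hom := by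
  rw [← Over.w ρ.t, ← Category.assoc, ← h, Category.assoc, Over.w ρ.s, Over.w ρ.t]

lemma lift_compHom {T₀ : Scheme.{u}} (α β : T₀ ⟶ R.left) (h : α ≫ ρ.s.left = β ≫ ρ.t.left) :
    pullback.lift α β h ≫ compHom h𝒳 ρ hρ =
      (mul h𝒳 ρ hρ (T := Over.mk (α ≫ R.hom)) (Over.homMk α rfl)
        (Over.homMk β (over_snd h𝒳 ρ hρ h)) (Over.OverMorphism.ext h)).left := by
  let l : (Over.mk (α ≫ R.hom) : Over S) ⟶ pairs ρ := Over.homMk (pullback.lift α β h) (by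
    change pullback.lift α β h ≫ pullback.fst _ _ ≫ R.hom = α ≫ R.hom
    rw [pullback.lift_fst_assoc])
  refine (congrArg (fun k : (Over.mk (α ≫ R.hom) : Over S) ⟶ R => k.left)
    (comp_mul h𝒳 ρ hρ l _ _ _)).trans ?_
  exact congrArg (fun k : (Over.mk (α ≫ R.hom) : Over S) ⟶ R => k.left)
    (mul_congr h𝒳 ρ hρ (Over.OverMorphism.ext (pullback.lift_fst _ _ _))
      (Over.OverMorphism.ext (pullback.lift_snd _ _ _)) _)

lemma lift_compHom' {T : Over S} (α β : T ⟶ R) (h : α ≫ ρ.s = β ≫ ρ.t) :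
    pullback.lift α.left β.left (congrArg (fun k => k.left) h) ≫ compHom h𝒳 ρ hρ =
      (mul h𝒳 ρ hρ α β h).left := by
  rw [lift_compHom]
  let l : (Over.mk (α.left ≫ R.hom) : Over S) ⟶ T :=
    Over.homMk (𝟙 _) ((Category.id_comp _).trans (Over.w α).symm)
  have := congrArg (fun k : (Over.mk (α.left ≫ R.hom) : Over S) ⟶ R => k.left) (comp_mul h𝒳 ρ hρ l α β h)
  refine Eq.trans ?_ (this.symm.trans (Category.id_comp _))
  exact congrArg (fun k : (Over.mk (α.left ≫ R.hom) : Over S) ⟶ R => k.left)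
    (mul_congr h𝒳 ρ hρ (Over.OverMorphism.ext (Category.id_comp _).symm)
      (Over.OverMorphism.ext (Category.id_comp _).symm) _)

/-- The groupoid scheme of a chart. -/
def chartGrpd : Grpd.GroupoidScheme S where
  U := U.left
  R := R.left
  pU := U.hom
  pR := R.hom
  s := ρ.s.left
  t := ρ.t.left
  e := (one h𝒳 ρ hρ (𝟙 U)).left
  i := (inverse h𝒳 ρ hρ).left
  c := compHom h𝒳 ρ hρ
  s_over := Over.w ρ.s
  t_over := Over.w ρ.t
  comp_s α β h := by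
    rw [lift_compHom]
    exact congrArg (fun k : (Over.mk (α ≫ R.hom) : Over S) ⟶ U => k.left) (mul_s h𝒳 ρ hρ _ _ _)
  comp_t α β h := by
    rw [lift_compHom]
    exact congrArg (fun k : (Over.mk (α ≫ R.hom) : Over S) ⟶ U => k.left) (mul_t h𝒳 ρ hρ _ _ _)
  assoc α β γ h₁ h₂ := by
    let T : Over S := Over.mk (α ≫ R.hom)
    let α' : T ⟶ R := Over.homMk α rfl
    let β' : T ⟶ R := Over.homMk β (over_snd h𝒳 ρ hρ h₁)
    let γ' : T ⟶ R := Over.homMk γ ((over_snd h𝒳 ρ hρ h₂).trans (over_snd h𝒳 ρ hρ h₁))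
    have e₁ : α' ≫ ρ.s = β' ≫ ρ.t := Over.OverMorphism.ext h₁
    have e₂ : β' ≫ ρ.s = γ' ≫ ρ.t := Over.OverMorphism.ext h₂
    have k₁ := lift_compHom' h𝒳 ρ hρ (mul h𝒳 ρ hρ α' β' e₁) γ'
      ((mul_s h𝒳 ρ hρ α' β' e₁).trans e₂)
    have k₂ := lift_compHom' h𝒳 ρ hρ α' (mul h𝒳 ρ hρ β' γ' e₂)
      (e₁.trans (mul_t h𝒳 ρ hρ β' γ' e₂).symm)
    refine Eq.trans ?_ ((k₁.trans (congrArg (fun k : T ⟶ R => k.left)
      (mul_assoc' h𝒳 ρ hρ α' β' γ' e₁ e₂))).trans (k₂.symm.trans ?_))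
    · congr 1
      apply pullback.hom_ext
      · simp only [pullback.lift_fst]
        exact lift_compHom' h𝒳 ρ hρ α' β' e₁
      · simp only [pullback.lift_snd]
        rfl
    · congr 1
      apply pullback.hom_ext
      · simp only [pullback.lift_fst]
        rfl
      · simp only [pullback.lift_snd]
        exact (lift_compHom' h𝒳 ρ hρ β' γ' e₂).symm
  e_s := by
    have : one h𝒳 ρ hρ (𝟙 U) ≫ ρ.s = 𝟙 U := ptOfArr_s h𝒳 ρ hρ _
    exact congrArg (fun k : U ⟶ U => k.left) this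
  e_t := by
    have : one h𝒳 ρ hρ (𝟙 U) ≫ ρ.t = 𝟙 U := ptOfArr_t h𝒳 ρ hρ _
    exact congrArg (fun k : U ⟶ U => k.left) this
  comp_e {T₀} α := by
    let T : Over S := Over.mk (α ≫ R.hom)
    let α' : T ⟶ R := Over.homMk α rfl
    have h1 : (α' ≫ ρ.s) ≫ one h𝒳 ρ hρ (𝟙 U) = one h𝒳 ρ hρ (α' ≫ ρ.s) := by
      rw [comp_one, Category.comp_id]
    have := (congrArg (fun k : T ⟶ R => k.left) (mul_one' h𝒳 ρ hρ α' rfl))
    rw [← lift_compHom' h𝒳 ρ hρ] at this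
    refine Eq.trans ?_ this
    congr 1
    apply pullback.hom_ext
    · simp [α']
    · simp only [pullback.lift_snd, ← h1]
      rw [← Category.assoc]
      rfl
  e_comp {T₀} α := by
    let T : Over S := Over.mk (α ≫ R.hom)
    let α' : T ⟶ R := Over.homMk α rfl
    have h1 : (α' ≫ ρ.t) ≫ one h𝒳 ρ hρ (𝟙 U) = one h𝒳 ρ hρ (α' ≫ ρ.t) := by
      rw [comp_one, Category.comp_id]
    have := (congrArg (fun k : T ⟶ R => k.left) (one_mul' h𝒳 ρ hρ α' rfl))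
    rw [← lift_compHom' h𝒳 ρ hρ] at this
    refine Eq.trans ?_ this
    congr 1
    apply pullback.hom_ext
    · simp only [pullback.lift_fst, ← h1]
      rw [← Category.assoc]
      rfl
    · simp [α']
  i_s := congrArg (fun k : R ⟶ U => k.left) (inverse_s h𝒳 ρ hρ)
  i_t := congrArg (fun k : R ⟶ U => k.left) (inverse_t h𝒳 ρ hρ)
  comp_i {T₀} α := by
    let T : Over S := Over.mk (α ≫ R.hom)
    let α' : T ⟶ R := Over.homMk α rfl
    have h1 : (α' ≫ ρ.t) ≫ one h𝒳 ρ hρ (𝟙 U) = one h𝒳 ρ hρ (α' ≫ ρ.t) := by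
      rw [comp_one, Category.comp_id]
    have := (congrArg (fun k : T ⟶ R => k.left) ((mul_inverse h𝒳 ρ hρ α').trans h1.symm))
    rw [← lift_compHom' h𝒳 ρ hρ] at this
    refine this.trans ?_
    rw [Over.comp_left, Over.comp_left, Category.assoc]
    rfl
  i_comp {T₀} α := by
    let T : Over S := Over.mk (α ≫ R.hom)
    let α' : T ⟶ R := Over.homMk α rfl
    have h1 : (α' ≫ ρ.s) ≫ one h𝒳 ρ hρ (𝟙 U) = one h𝒳 ρ hρ (α' ≫ ρ.s) := by
      rw [comp_one, Category.comp_id]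
    have := (congrArg (fun k : T ⟶ R => k.left) ((inverse_mul h𝒳 ρ hρ α').trans h1.symm))
    rw [← lift_compHom' h𝒳 ρ hρ] at this
    refine this.trans ?_
    rw [Over.comp_left, Over.comp_left, Category.assoc]
    rfl

end Grpd

/-- A finite locally free chart gives a finite locally free groupoid, with the universal arrow. -/
theorem exists_chart_groupoid (hx : AlgSt.RepByAlgSpWith (FLF S) x) :
    ∃ (R : Over S) (ρ : Arr x R) (G : Grpd.GroupoidScheme S) (hU : G.U = U.left) (hR : G.R = R.left),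
      G.s = eqToHom hR ≫ ρ.s.left ≫ eqToHom hU.symm ∧ G.t = eqToHom hR ≫ ρ.t.left ≫ eqToHom hU.symm ∧
      IsFinite ρ.s.left ∧ Flat ρ.s.left ∧ LocallyOfFinitePresentation ρ.s.left ∧
      Surjective ρ.s.left ∧ ∀ T : Over S, Function.Bijective (fun g : T ⟶ R => Arr.pull h𝒳 g ρ) := by
  obtain ⟨R, ρ, h1, h2, h3, h4, h5⟩ := exists_arrows h𝒳 hx
  exact ⟨R, ρ, chartGrpd h𝒳 ρ h5, rfl, rfl, by simp [chartGrpd], by simp [chartGrpd], h1, h2, h3, h4, h5⟩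

end Groth.Agent.H14KM
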