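import Groth.Agent.H14KM.RelQuot
import Groth.Agent.H14KM.ChartDesc
import Groth.Agent.H13Grpd.Restr
import Groth.Agent.H13Grpd.Coeq
import Groth.Prelude.Def_StCoarse

/-!
# The coarse moduli space of a well-nigh affine stack
-/

set_option autoImplicit false
set_option backward.isDefEq.respectTransparency false
set_option backward.isDefEq.respectTransparency.types false

universe u

open CategoryTheory CategoryTheory.Functor Opposite AlgebraicGeometry CategoryTheory.Limits
open AlgSp (yon J)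

noncomputable section

namespace Groth.Agent.H14KM

open H14Fib H14Stk H14AlgSt
open H14LocalCat (secMor secMor_natural secMor_comp)

variable {S : Scheme.{u}} {𝒳 : AlgSt.Cat S} {U : Over S}

/-- The projection of a finite locally free affine groupoid to the invariants is a relation quotient. -/
theorem isRelQuot_toQuot (G : Grpd.GroupoidScheme S) [IsAffine G.U] [IsAffine G.R] [IsFinite G.s]
    [Flat G.s] [LocallyOfFinitePresentation G.s] : IsRelQuot G.toQuot G.s G.t := by
  have h := H13Grpd.isInvMap_toQuot G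
  refine ⟨H13Grpd.isIntegralHom_toQuot G, inferInstance, h.w.symm, h.injective_app,
    fun a ha => (h.range_app a).1 ha, fun Ω _ _ x x' hx => ?_⟩
  let l := pullback.lift G.t G.s h.w
  have hls : Function.Surjective l := H13Grpd.surjective_pair_toQuot G h.w
  have : IsFinite (l ≫ pullback.snd G.toQuot G.toQuot) := by
    rw [pullback.lift_snd]; infer_instance
  have : IsFinite l := IsFinite.of_comp l (pullback.snd G.toQuot G.toQuot)
  let z := pullback.lift x' x hx.symm
  obtain ⟨r, hr⟩ := hls (z (IsLocalRing.closedPoint Ω))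
  obtain ⟨c, hc, -⟩ := exists_point_lift l z r hr
  refine ⟨c, ?_, ?_⟩
  · have := hc =≫ pullback.snd _ _
    rwa [Category.assoc, pullback.lift_snd, pullback.lift_snd] at this
  · have := hc =≫ pullback.fst _ _
    rwa [Category.assoc, pullback.lift_fst, pullback.lift_fst] at this

/-- The data of the quotient of a finite locally free chart: locally on the quotient it is given by
invariants. -/
structure WNAData (x : FibCat.overCat U ⥤ᵇ 𝒳) where
  /-- the quotient -/
  Y : Over S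
  /-- the projection of the chart -/
  p : U ⟶ Y
  /-- the scheme of arrows -/
  R : Over S
  /-- the universal arrow -/
  ρ : Arr x R
  stack : AlgSt.IsAlgStack Scheme.fppfPrecoverage 𝒳
  universal : ∀ T : Over S, Function.Bijective (fun g : T ⟶ R => Arr.pull stack.isStack.1 g ρ)
  integral : IsIntegralHom p.left
  surjP : Surjective p.left
  finiteσ : IsFinite ρ.s.left
  w : ρ.s.left ≫ p.left = ρ.t.left ≫ p.left
  trans : ∀ (Ω : Type u) [Field Ω] [IsAlgClosed Ω] (z z' : Spec (CommRingCat.of Ω) ⟶ U.left),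
    z ≫ p.left = z' ≫ p.left →
      ∃ r : Spec (CommRingCat.of Ω) ⟶ R.left, r ≫ ρ.s.left = z ∧ r ≫ ρ.t.left = z'
  loc : ∀ y : Y.left, ∃ O : Y.left.Opens, y ∈ O ∧
    ∀ (B : Scheme.{u}) [IsAffine B] (e : B ⟶ Y.left) [Flat e], Set.range e ⊆ (O : Set Y.left) →
      IsRelQuot (pullback.snd p.left e)
        (pullback.map (ρ.s.left ≫ p.left) e p.left e ρ.s.left (𝟙 B) (𝟙 _) (by simp) (by simp))
        (pullback.map (ρ.s.left ≫ p.left) e p.left e ρ.t.left (𝟙 B) (𝟙 _) (by simp [w]) (by simp))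
  /-- the map to the quotient -/
  π : 𝒳 ⥤ᵇ AlgSt.ofSp ((yon S).obj Y)
  chartSec_π : chartSec (x := x) π = (yon S).map p
  flat : AlgSt.RepByAlgSpWith (AlgSp.LocP @Flat) x
  lfp : AlgSt.RepByAlgSpWith (AlgSp.LocP @LocallyOfFinitePresentation) x
  surj : AlgSt.RepByAlgSpWith AlgSp.IsSurjectiveMor x
  finite : AlgSt.RepByAlgSpWith AlgSp.IsFiniteMor x

theorem exists_wnaData (h𝒳 : AlgSt.IsAlgStack Scheme.fppfPrecoverage 𝒳) [IsAffine U.left]
    {x : FibCat.overCat U ⥤ᵇ 𝒳} (hx : AlgSt.RepByAlgSpWith (FLF S) x) :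
    ∃ D : WNAData x, IsAffine D.Y.left := by
  have hG := h𝒳.isStack.1
  obtain ⟨R, ρ, h1, h2, h3, -, h5⟩ := exists_arrows hG hx
  let G := chartGrpd hG ρ h5
  have : IsAffine G.U := inferInstanceAs (IsAffine U.left)
  have : IsAffine R.left := isAffine_of_isAffineHom ρ.s.left
  have : IsAffine G.R := inferInstanceAs (IsAffine R.left)
  have : IsFinite G.s := h1
  have : Flat G.s := h2
  have : LocallyOfFinitePresentation G.s := h3
  have hinv := H13Grpd.isInvMap_toQuot G
  obtain ⟨k, hk⟩ := hinv.exists_desc_top U.hom ((Over.w ρ.t).trans (Over.w ρ.s).symm)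
  let Y : Over S := Over.mk k
  let p : U ⟶ Y := Over.homMk G.toQuot hk
  have hw : ρ.s ≫ p = ρ.t ≫ p := Over.OverMorphism.ext hinv.w.symm
  have hx1 := repWith_mono (fun _ _ _ h => h.1.1.2) hx
  have hx2 := repWith_mono (fun _ _ _ h => h.2) hx
  have hx3 := repWith_mono (fun _ _ _ h => h.1.1.1) hx
  obtain ⟨π, hπ⟩ := exists_functor_of_invariant h𝒳 hx1 hx2 hx3 ((yon S).map p) fun T r =>
    invariant_of_universal hG ρ h5 (by rw [← Functor.map_comp, ← Functor.map_comp, hw]) r
  have hq : IsRelQuot p.left ρ.s.left ρ.t.left := isRelQuot_toQuot G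
  have hY : IsAffine Y.left := inferInstanceAs (IsAffine (Spec _))
  have := hq.integral
  have hs : Surjective p.left := ⟨fun y => by
    have hdom : IsDominant p.left := isDominant_of_of_appTop_injective (f := p.left) hq.inj
    have h2 := p.left.isClosedMap.isClosed_range.closure_eq ▸ hdom.1.closure_range
    exact (h2 ▸ Set.mem_univ y : y ∈ Set.range p.left)⟩
  exact ⟨⟨Y, p, R, ρ, h𝒳, h5, hq.integral, hs, h1, hq.w, hq.trans,
    fun y => ⟨⊤, trivial, fun B _ e _ _ => hq.baseChange e⟩, π, hπ,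
    hx1, hx2, hx3, repWith_mono (fun _ _ _ h => h.1.2) hx⟩, hY⟩

namespace WNAData

variable {x : FibCat.overCat U ⥤ᵇ 𝒳} (D : WNAData x)

include D in
lemma fibGrpd : FibCat.IsFibGrpd 𝒳.p := D.stack.isStack.1

/-- A morphism between objects of one fibre gives an isomorphism there. -/
lemma nonempty_fiberIso (hX : FibCat.IsFibGrpd 𝒳.p) {T : Over S} {a b : 𝒳.p.Fiber T} (m : a.1 ⟶ b.1)
    (hm : 𝒳.p.IsHomLift (𝟙 T) m) : Nonempty (a ≅ b) := by
  have := isIso_of_fibGrpd hX (𝟙 T) m
  exact ⟨H14Fib.fiberIso (asIso m) hm⟩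

lemma fibSec_eq {Q : AlgSp.Sp S} (φ : 𝒳 ⥤ᵇ AlgSt.ofSp Q) {T : Over S} (a : 𝒳.p.Fiber T) :
    (J S).uliftYonedaEquiv.symm (AlgSt.fibSec φ a) =
      (yon S).map (eqToHom a.2.symm) ≫ secMor φ a.1 := by
  apply (J S).uliftYonedaEquiv.injective
  rw [← H14Quot.equiv_map, secMor, Equiv.apply_symm_apply, Equiv.apply_symm_apply, H14Stk.secAt,
    H14Stk.pmap_comp, eqToHom_trans]
  rfl

lemma fibSec_of_lift {T : Over S} (a : 𝒳.p.Fiber T) {w : T ⟶ U}
    (h : IsChartLift x a.1 (eqToHom a.2.symm) w) :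
    (J S).uliftYonedaEquiv.symm (AlgSt.fibSec D.π a) = (yon S).map (w ≫ D.p) := by
  rw [fibSec_eq, map_chartSec_of_lift D.π h, D.chartSec_π, Functor.map_comp]

include D in
/-- Objects over an algebraically closed field lift to the chart. -/
lemma exists_lift_geom {Ω : Type u} [Field Ω] [IsAlgClosed Ω] {t : Spec (CommRingCat.of Ω) ⟶ S}
    (a : 𝒳.p.Fiber (Over.mk t)) : ∃ w, IsChartLift x a.1 (eqToHom a.2.symm) w := by
  obtain ⟨ι, C, c, -, h2, h3, h4⟩ := exists_lift_family D.stack D.flat D.lfp D.surj a.1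
  let e : Over.mk t ⟶ 𝒳.p.obj a.1 := eqToHom a.2.symm
  let e' : 𝒳.p.obj a.1 ⟶ Over.mk t := eqToHom a.2
  obtain ⟨i, z, -⟩ := h3 (e.left (IsLocalRing.closedPoint Ω))
  let f : (C i).left ⟶ Spec (CommRingCat.of Ω) := (c i ≫ e').left
  have := h2 i
  have : IsIso e'.left := inferInstanceAs (IsIso ((Over.forget S).map e'))
  have : LocallyOfFiniteType f := inferInstanceAs (LocallyOfFiniteType ((c i).left ≫ e'.left))
  have : JacobsonSpace (C i).left := LocallyOfFiniteType.jacobsonSpace f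
  obtain ⟨z', -, hz'⟩ := nonempty_inter_closedPoints (Z := (Set.univ : Set (C i).left))
    ⟨z, trivial⟩ isOpen_univ.isLocallyClosed
  let P : Over.mk t ⟶ C i := Over.homMk (pointOfClosedPoint f z' hz') (by
    rw [← Over.w (c i ≫ e')]
    exact (Category.assoc _ _ _).symm.trans
      ((congrArg (· ≫ t) (pointOfClosedPoint_comp f z' hz')).trans (Category.id_comp t)))
  have hP : P ≫ c i = eqToHom a.2.symm := by
    have : P ≫ c i ≫ e' = 𝟙 _ := Over.OverMorphism.ext (pointOfClosedPoint_comp f z' hz')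
    rw [← cancel_mono e', Category.assoc, this]
    simp [e']
  obtain ⟨w, hw⟩ := h4 i
  exact ⟨P ≫ w, hP ▸ hw.comp P⟩

theorem geomPtBij : AlgSt.GeomPtBij D.π := by
  intro Ω _ _ t
  have hinj : Function.Injective ((J S).uliftYonedaEquiv.symm :
      ((yon S).obj D.Y).obj.obj (op (Over.mk t)) → ((yon S).obj (Over.mk t) ⟶ (yon S).obj D.Y)) :=
    Equiv.injective _
  refine ⟨fun m => ?_, fun a b hab => ?_⟩
  · obtain ⟨q, hq⟩ := (yon S).map_surjective ((J S).uliftYonedaEquiv.symm m)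
    have := D.integral
    have hs := D.surjP
    obtain ⟨z, hz⟩ := hs.surj (q.left (IsLocalRing.closedPoint Ω))
    obtain ⟨c, hc, -⟩ := exists_point_lift D.p.left q.left z hz
    let w : Over.mk t ⟶ U := Over.homMk c (by
      rw [← Over.w D.p, ← Category.assoc, hc]; exact Over.w q)
    refine ⟨⟨xo x w, xo_obj x w⟩, hinj ?_⟩
    rw [D.fibSec_of_lift (w := w) _ ⟨𝟙 _, IsHomLift.of_fac' _ _ _ (xo_obj x w) rfl (by simp)⟩, ← hq]
    exact congrArg _ (Over.OverMorphism.ext hc)
  · obtain ⟨w, hw⟩ := D.exists_lift_geom a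
    obtain ⟨w', hw'⟩ := D.exists_lift_geom b
    have e : w ≫ D.p = w' ≫ D.p := (yon S).map_injective (by
      rw [← D.fibSec_of_lift a hw, ← D.fibSec_of_lift b hw', hab])
    obtain ⟨r, hr1, hr2⟩ := D.trans Ω w.left w'.left (congrArg (fun k => k.left) e)
    let g : Over.mk t ⟶ D.R := Over.homMk r (by
      rw [← Over.w D.ρ.s, ← Category.assoc, hr1]; exact Over.w w)
    have e1 : (Arr.pull D.fibGrpd g D.ρ).s = w := (Arr.pull_s _ g _).trans (Over.OverMorphism.ext hr1)
    have e2 : (Arr.pull D.fibGrpd g D.ρ).t = w' := (Arr.pull_t _ g _).trans (Over.OverMorphism.ext hr2)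
    generalize Arr.pull D.fibGrpd g D.ρ = A at e1 e2
    obtain ⟨s₀, t₀, φ₀, hφ⟩ := A
    dsimp at e1 e2
    subst e1 e2
    obtain ⟨m, hm⟩ := hw
    obtain ⟨m', hm'⟩ := hw'
    have hX := D.fibGrpd
    have := isIso_of_fibGrpd hX (eqToHom a.2.symm) m
    obtain ⟨i⟩ := nonempty_fiberIso hX (a := a) (b := b) (CategoryTheory.inv m ≫ φ₀ ≫ m') (by
      refine IsHomLift.of_fac' _ _ _ a.2 b.2 ?_
      rw [Functor.map_comp, Functor.map_comp, Functor.map_inv]
      simp only [IsHomLift.fac' 𝒳.p (eqToHom a.2.symm) m, IsHomLift.fac' 𝒳.p (eqToHom b.2.symm) m',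
        IsHomLift.fac' 𝒳.p (𝟙 (Over.mk t)) φ₀]
      simp)
    exact ⟨i⟩

end WNAData

end Groth.Agent.H14KM
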