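import Groth.Agent.H14KM.EtTr
import Groth.Agent.H14KM.WNAQuot
import Groth.Agent.H15Subtr.EtMor
import Groth.Agent.H15Subtr.UnivSSCriteria
import Groth.Agent.H15Subtr.EtTransfer
import Groth.Prelude.Def_Desc

/-!
# The descent datum of an etale morphism preserving stabilizers along the projection to the quotient
-/

set_option autoImplicit false
set_option backward.isDefEq.respectTransparency false
set_option backward.isDefEq.respectTransparency.types false

universe u

open CategoryTheory CategoryTheory.Functor Opposite AlgebraicGeometry CategoryTheory.Limits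

noncomputable section

namespace Groth.Agent.H14KM

open H14Fib H14Stk H14AlgSt

/-- Two lifts to an etale separated scheme agreeing after a surjection are equal. -/
lemma eq_of_surjective {T' T W U : Scheme.{u}} (pr : W ⟶ U) [Etale pr] [IsSeparated pr] (c : T' ⟶ T)
    [Surjective c] {f g : T ⟶ W} (w : f ≫ pr = g ≫ pr) (e : c ≫ f = c ≫ g) : f = g := by
  let l := pullback.lift f g w
  let i := pullback.fst l (pullback.diagonal pr)
  have : IsOpenImmersion i := MorphismProperty.pullback_fst _ _ inferInstance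
  have : Surjective i := ⟨fun t => by
    obtain ⟨t', rfl⟩ := c.surjective t
    let m : T' ⟶ pullback l (pullback.diagonal pr) := pullback.lift c (c ≫ f) (by
      apply pullback.hom_ext
      · simp [l]
      · simp [l, e])
    exact ⟨m t', by rw [← Scheme.Hom.comp_apply, pullback.lift_fst]⟩⟩
  have : IsIso i := (isIso_iff_isOpenImmersion_and_surjective _).mpr ⟨inferInstance, inferInstance⟩
  rw [← cancel_epi i]
  have h1 : i ≫ f = pullback.snd l (pullback.diagonal pr) := by
    have := pullback.condition (f := l) (g := pullback.diagonal pr) =≫ pullback.fst pr pr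
    simpa [l] using this
  have h2 : i ≫ g = pullback.snd l (pullback.diagonal pr) := by
    have := pullback.condition (f := l) (g := pullback.diagonal pr) =≫ pullback.snd pr pr
    simpa [l] using this
  rw [h1, h2]

namespace WNAData

variable {S : Scheme.{u}} {𝒳 𝒳' : AlgSt.Cat S} {U : Over S} {x : FibCat.overCat U ⥤ᵇ 𝒳}
  {h : 𝒳' ⥤ᵇ 𝒳} (D : WNAData x) (P : EtPull x h)

/-- Pairs of a point of the pullback and a point of the chart with one image in the quotient. -/
abbrev pairs : Over S :=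
  Over.mk (pullback.fst (P.pr.left ≫ D.p.left) D.p.left ≫ P.W.hom)

/-- The first projection of the pairs. -/
abbrev pair₁ : D.pairs P ⟶ P.W := Over.homMk (pullback.fst (P.pr.left ≫ D.p.left) D.p.left) rfl

/-- The second projection of the pairs. -/
abbrev pair₂ : D.pairs P ⟶ U :=
  Over.homMk (pullback.snd (P.pr.left ≫ D.p.left) D.p.left) (by
    change pullback.snd _ _ ≫ U.hom = pullback.fst _ _ ≫ P.W.hom
    rw [← Over.w D.p, ← Over.w P.pr, ← Over.w D.p, ← pullback.condition_assoc]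
    simp only [Category.assoc])

/-- Points of the pullback with an arrow out of their image. -/
abbrev pairsArr : Over S := Over.mk (pullback.fst P.pr.left D.ρ.s.left ≫ P.W.hom)

/-- The point. -/
abbrev paPt : D.pairsArr P ⟶ P.W := Over.homMk (pullback.fst P.pr.left D.ρ.s.left) rfl

/-- The arrow. -/
abbrev paArr : D.pairsArr P ⟶ D.R :=
  Over.homMk (pullback.snd P.pr.left D.ρ.s.left) (by
    change pullback.snd _ _ ≫ D.R.hom = pullback.fst _ _ ≫ P.W.hom
    rw [← Over.w D.ρ.s, ← Over.w P.pr, pullback.condition_assoc])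

lemma pa_cond : D.paPt P ≫ P.pr = D.paArr P ≫ D.ρ.s := Over.OverMorphism.ext pullback.condition

/-- The pair of the point and the target of the arrow. -/
abbrev paMap : (D.pairsArr P).left ⟶ (D.pairs P).left :=
  pullback.lift (pullback.fst P.pr.left D.ρ.s.left) (pullback.snd P.pr.left D.ρ.s.left ≫ D.ρ.t.left) (by
    rw [Category.assoc, ← D.w, pullback.condition_assoc])

lemma isIntegralHom_paMap : IsIntegralHom (D.paMap P) := by
  have := D.finiteσ
  have := D.integral
  have : IsFinite (D.paMap P ≫ pullback.fst (P.pr.left ≫ D.p.left) D.p.left) := by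
    rw [pullback.lift_fst]; infer_instance
  have : IsFinite (D.paMap P) :=
    IsFinite.of_comp _ (pullback.fst (P.pr.left ≫ D.p.left) D.p.left)
  infer_instance

lemma surjective_paMap : Surjective (D.paMap P) := by
  refine ⟨fun z => ?_⟩
  have := D.finiteσ
  let Ω := AlgebraicClosure ((D.pairs P).left.residueField z)
  let zb : Spec (CommRingCat.of Ω) ⟶ (D.pairs P).left :=
    Spec.map (CommRingCat.ofHom (algebraMap ((D.pairs P).left.residueField z) Ω)) ≫
      (D.pairs P).left.fromSpecResidueField z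
  obtain ⟨r, hr1, hr2⟩ := D.trans Ω (zb ≫ pullback.fst _ _ ≫ P.pr.left) (zb ≫ pullback.snd _ _)
    (by simp only [Category.assoc, pullback.condition])
  let k := pullback.lift (f := P.pr.left) (g := D.ρ.s.left) (zb ≫ pullback.fst _ _) r
    (by rw [hr1, Category.assoc])
  have e : k ≫ D.paMap P = zb := by
    apply pullback.hom_ext
    · simp [k]
    · simp [k, hr2]
  let pt : ↥(Spec (CommRingCat.of Ω)) := IsLocalRing.closedPoint Ω
  refine ⟨k pt, ?_⟩
  change (k ≫ D.paMap P) pt = z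
  rw [e]
  exact (Scheme.Hom.comp_apply _ _ _).trans (Scheme.fromSpecResidueField_apply _ _)

variable {T : Over S}

lemma tr_congr {r r' : Arr x T} (hr : r = r') {v v' : T ⟶ P.W} (hv : v = v') (e : v ≫ P.pr = r.s) :
    P.tr D.fibGrpd r v e = P.tr D.fibGrpd r' v' (hr ▸ hv ▸ e) := by
  subst hr hv; rfl

/-- The transport of the point along the arrow. -/
def paTr : D.pairsArr P ⟶ P.W :=
  P.tr D.fibGrpd (Arr.pull D.fibGrpd (D.paArr P) D.ρ) (D.paPt P)
    ((D.pa_cond P).trans (Arr.pull_s _ _ _).symm)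

variable (h𝒳' : FibCat.IsFibGrpd 𝒳'.p)

include h𝒳' in
lemma lift_paTr (r : Arr x T) (v : T ⟶ P.W) (hv : v ≫ P.pr = r.s) :
    pullback.lift v.left (ptOfArr D.fibGrpd D.ρ D.universal r).left
      (congrArg (fun m => m.left) (hv.trans (ptOfArr_s D.fibGrpd D.ρ D.universal r).symm)) ≫
        (D.paTr P).left = (P.tr D.fibGrpd r v hv).left := by
  let k : T ⟶ D.pairsArr P := Over.homMk (pullback.lift v.left
    (ptOfArr D.fibGrpd D.ρ D.universal r).left
    (congrArg (fun m => m.left) (hv.trans (ptOfArr_s D.fibGrpd D.ρ D.universal r).symm))) (by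
      change _ ≫ pullback.fst _ _ ≫ P.W.hom = T.hom
      rw [pullback.lift_fst_assoc]
      exact Over.w v)
  have h1 : k ≫ D.paPt P = v := Over.OverMorphism.ext (pullback.lift_fst _ _ _)
  have h2 : k ≫ D.paArr P = ptOfArr D.fibGrpd D.ρ D.universal r :=
    Over.OverMorphism.ext (pullback.lift_snd _ _ _)
  refine congrArg (fun m => m.left) (?_ : k ≫ D.paTr P = _)
  rw [paTr, P.tr_natural D.fibGrpd h𝒳']
  refine tr_congr D P ?_ h1 _
  rw [← Arr.pull_comp, h2, pull_ptOfArr]

include h𝒳' in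
lemma kernel_paMap (haut : ∀ a : 𝒳'.obj, Function.Surjective (Gerb.autMap h a)) :
    pullback.fst (D.paMap P) (D.paMap P) ≫ (D.paTr P).left =
      pullback.snd (D.paMap P) (D.paMap P) ≫ (D.paTr P).left := by
  let K : Over S := Over.mk (pullback.fst (D.paMap P) (D.paMap P) ≫ (D.pairsArr P).hom)
  have hc : pullback.fst (D.paMap P) (D.paMap P) ≫ pullback.fst P.pr.left D.ρ.s.left =
      pullback.snd (D.paMap P) (D.paMap P) ≫ pullback.fst P.pr.left D.ρ.s.left := by
    have := pullback.condition (f := D.paMap P) (g := D.paMap P) =≫ pullback.fst _ _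
    simpa using this
  have ht : (pullback.fst (D.paMap P) (D.paMap P) ≫ pullback.snd P.pr.left D.ρ.s.left) ≫ D.ρ.t.left =
      (pullback.snd (D.paMap P) (D.paMap P) ≫ pullback.snd P.pr.left D.ρ.s.left) ≫ D.ρ.t.left := by
    have := pullback.condition (f := D.paMap P) (g := D.paMap P) =≫ pullback.snd _ _
    simpa using this
  let k₁ : K ⟶ D.pairsArr P := Over.homMk (pullback.fst _ _) rfl
  let k₂ : K ⟶ D.pairsArr P := Over.homMk (pullback.snd (D.paMap P) (D.paMap P)) (by
    change _ ≫ pullback.fst _ _ ≫ P.W.hom = _ ≫ pullback.fst _ _ ≫ P.W.hom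
    rw [← Category.assoc, ← hc, Category.assoc])
  have hpt : k₁ ≫ D.paPt P = k₂ ≫ D.paPt P := Over.OverMorphism.ext hc
  have hend : (k₁ ≫ D.paArr P) ≫ D.ρ.t = (k₂ ≫ D.paArr P) ≫ D.ρ.t := Over.OverMorphism.ext ht
  refine congrArg (fun m => m.left) (?_ : k₁ ≫ D.paTr P = k₂ ≫ D.paTr P)
  rw [paTr, P.tr_natural D.fibGrpd h𝒳', P.tr_natural D.fibGrpd h𝒳']
  rw [P.tr_eq_of_ends D.fibGrpd h𝒳' haut _
    (Arr.pull D.fibGrpd k₂ (Arr.pull D.fibGrpd (D.paArr P) D.ρ)) ?_ ?_]
  · exact tr_congr D P rfl hpt _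
  · simp only [Arr.pull_s]
    rw [← D.pa_cond P, ← Category.assoc, hpt, Category.assoc]
  · simp only [Arr.pull_t]
    simpa only [Category.assoc] using hend

/-- The transport function of the descent datum. -/
theorem exists_transport (haut : ∀ a : 𝒳'.obj, Function.Surjective (Gerb.autMap h a))
    (h𝒳' : FibCat.IsFibGrpd 𝒳'.p) :
    ∃ Φ : (D.pairs P).left ⟶ P.W.left, Φ ≫ P.pr.left = (D.pair₂ P).left ∧
      ∀ (T : Over S) (r : Arr x T) (v : T ⟶ P.W) (hv : v ≫ P.pr = r.s) (e),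
        pullback.lift v.left r.t.left e ≫ Φ = (P.tr D.fibGrpd r v hv).left := by
  have := P.etale
  have := P.sep
  have := D.isIntegralHom_paMap P
  have := D.surjective_paMap P
  obtain ⟨Φ, hΦ1, hΦ2⟩ := H15Subtr.exists_desc_of_univSubmersive (D.paMap P)
    (H15Subtr.univSubmersive_of_universallyClosed (D.paMap P)) P.pr.left (D.pair₂ P).left
    (D.paTr P).left (by
      change _ = D.paMap P ≫ pullback.snd _ _
      rw [pullback.lift_snd]
      have := congrArg (fun m => m.left)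
        (P.tr_pr D.fibGrpd (Arr.pull D.fibGrpd (D.paArr P) D.ρ) (D.paPt P)
          ((D.pa_cond P).trans (Arr.pull_s _ _ _).symm))
      simp only [Over.comp_left, Arr.pull_t] at this
      exact this)
    (D.kernel_paMap P h𝒳' haut)
  refine ⟨Φ, hΦ1, fun T r v hv e => ?_⟩
  rw [← D.lift_paTr P h𝒳' r v hv, ← hΦ2, ← Category.assoc]
  congr 1
  apply pullback.hom_ext
  · simp
  · simp only [Category.assoc, pullback.lift_snd, pullback.lift_snd_assoc]
    exact (congrArg (fun m => m.left) (ptOfArr_t D.fibGrpd D.ρ D.universal r)).symm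

/-- A point and a compatible point of the chart are joined by an arrow, after a surjection. -/
lemma exists_arr_cover (v : T ⟶ P.W) (w : T ⟶ U) (e : (v ≫ P.pr) ≫ D.p = w ≫ D.p) :
    ∃ (T' : Over S) (c : T' ⟶ T) (r : Arr x T'), Surjective c.left ∧
      c ≫ v ≫ P.pr = r.s ∧ c ≫ w = r.t := by
  let z : T.left ⟶ (D.pairs P).left :=
    pullback.lift v.left w.left ((Category.assoc _ _ _).symm.trans (congrArg (fun m => m.left) e))
  have := D.surjective_paMap P
  let T' : Over S := Over.mk (pullback.fst z (D.paMap P) ≫ T.hom)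
  let c : T' ⟶ T := Over.homMk (pullback.fst z (D.paMap P)) rfl
  have hz : pullback.fst z (D.paMap P) ≫ v.left =
      pullback.snd z (D.paMap P) ≫ pullback.fst P.pr.left D.ρ.s.left := by
    have := pullback.condition (f := z) (g := D.paMap P) =≫ pullback.fst _ _
    simpa [z] using this
  have hz' : pullback.fst z (D.paMap P) ≫ w.left =
      (pullback.snd z (D.paMap P) ≫ pullback.snd P.pr.left D.ρ.s.left) ≫ D.ρ.t.left := by
    have := pullback.condition (f := z) (g := D.paMap P) =≫ pullback.snd _ _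
    simpa [z] using this
  let k : T' ⟶ D.pairsArr P := Over.homMk (pullback.snd z (D.paMap P)) (by
    change _ ≫ pullback.fst _ _ ≫ P.W.hom = _ ≫ T.hom
    rw [← Over.w v, ← Category.assoc, ← hz, Category.assoc])
  refine ⟨T', c, Arr.pull D.fibGrpd (k ≫ D.paArr P) D.ρ,
    MorphismProperty.pullback_fst _ _ inferInstance, ?_, ?_⟩
  · rw [Arr.pull_s, Category.assoc, ← D.pa_cond P, ← Category.assoc, ← Category.assoc]
    congr 1
    exact Over.OverMorphism.ext hz
  · rw [Arr.pull_t]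
    exact Over.OverMorphism.ext hz'

/-- The descent datum of the pullback. -/
theorem exists_descentDatum (haut : ∀ a : 𝒳'.obj, Function.Surjective (Gerb.autMap h a))
    (h𝒳' : FibCat.IsFibGrpd 𝒳'.p) :
    ∃ E : Desc.SchDD D.p.left, ∃ hE : E.obj = Over.mk P.pr.left,
      ∀ (T : Over S) (r : Arr x T) (v : T ⟶ P.W) (hv : v ≫ P.pr = r.s) (w)
        (v₀ : Desc.Lifts E.obj r.s.left),
        v₀.1 ≫ (eqToHom hE).left = v.left →
          (E.φ r.s.left r.t.left w v₀).1 ≫ (eqToHom hE).left = (P.tr D.fibGrpd r v hv).left := by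
  obtain ⟨Φ, hΦ1, hΦ2⟩ := D.exists_transport P haut h𝒳'
  have := P.etale
  have := P.sep
  let L := Over.mk P.pr.left
  let f : ∀ {T : Scheme.{u}} (x₀ x₁ : T ⟶ U.left), x₀ ≫ D.p.left = x₁ ≫ D.p.left →
      Desc.Lifts L x₀ → Desc.Lifts L x₁ := fun {T} x₀ x₁ e v =>
    ⟨pullback.lift v.1 x₁ (by rw [← e, ← Category.assoc]; exact congrArg (· ≫ D.p.left) v.2) ≫ Φ, by
      rw [Category.assoc]
      change _ ≫ Φ ≫ P.pr.left = x₁
      rw [hΦ1]
      exact pullback.lift_snd _ _ _⟩
  have hover : ∀ {T : Scheme.{u}} (x₀ x₁ : T ⟶ U.left), x₀ ≫ D.p.left = x₁ ≫ D.p.left →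
      x₁ ≫ U.hom = x₀ ≫ U.hom := fun x₀ x₁ e => by
    rw [← Over.w D.p, ← Category.assoc, ← Category.assoc, e]
  have hvo : ∀ {T : Scheme.{u}} {x₀ : T ⟶ U.left} (v : Desc.Lifts L x₀),
      v.1 ≫ P.W.hom = x₀ ≫ U.hom := fun {T} {x₀} v => by
    rw [← Over.w P.pr, ← Category.assoc]; exact congrArg (· ≫ U.hom) v.2
  have hself : ∀ {T : Scheme.{u}} (x₀ : T ⟶ U.left) (v : Desc.Lifts L x₀), f x₀ x₀ rfl v = v :=
    fun {T} x₀ v => by
      apply Subtype.ext
      let v' : Over.mk (x₀ ≫ U.hom) ⟶ P.W := Over.homMk v.1 (hvo v)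
      have h1 := hΦ2 _ (Arr.id' x (v' ≫ P.pr)) v' rfl (by simp [Arr.id'])
      rw [P.tr_id D.fibGrpd h𝒳'] at h1
      refine Eq.trans ?_ h1
      change pullback.lift _ _ _ ≫ Φ = pullback.lift _ _ _ ≫ Φ
      congr 1
      apply pullback.hom_ext
      · simp [v']
      · simp only [pullback.lift_snd]
        exact v.2.symm
  have hcomp : ∀ {T : Scheme.{u}} (x₀ x₁ x₂ : T ⟶ U.left) (e₁ : x₀ ≫ D.p.left = x₁ ≫ D.p.left)
      (e₂ : x₁ ≫ D.p.left = x₂ ≫ D.p.left) (v : Desc.Lifts L x₀),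
      f x₁ x₂ e₂ (f x₀ x₁ e₁ v) = f x₀ x₂ (e₁.trans e₂) v := fun {T} x₀ x₁ x₂ e₁ e₂ v => by
    apply Subtype.ext
    let T₀ : Over S := Over.mk (x₀ ≫ U.hom)
    let v₀ : T₀ ⟶ P.W := Over.homMk v.1 (hvo v)
    let w₁ : T₀ ⟶ U := Over.homMk x₁ (hover x₀ x₁ e₁)
    let w₂ : T₀ ⟶ U := Over.homMk x₂ (hover x₀ x₂ (e₁.trans e₂))
    have hv₀ : v₀ ≫ P.pr = (Over.homMk x₀ rfl : T₀ ⟶ U) := Over.OverMorphism.ext v.2
    obtain ⟨T₁, c, r, hc, hr1, hr2⟩ := D.exists_arr_cover P v₀ w₁ (by
      rw [hv₀]; exact Over.OverMorphism.ext e₁)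
    let v₁ := P.tr D.fibGrpd r (c ≫ v₀) ((Category.assoc _ _ _).trans hr1)
    obtain ⟨T₂, c', q, hc', hq1, hq2⟩ := D.exists_arr_cover P v₁ (c ≫ w₂) (by
      rw [P.tr_pr, ← hr2, Category.assoc, Category.assoc]
      exact congrArg (c ≫ ·) (Over.OverMorphism.ext e₂))
    let r' := Arr.pull D.fibGrpd c' r
    have hrq : r'.t = q.s := by
      rw [Arr.pull_t, ← hq1]
      simp [v₁]
    have hv' : (c' ≫ c ≫ v₀) ≫ P.pr = r'.s := by
      rw [Arr.pull_s, ← hr1]; simp only [Category.assoc]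
    have : Surjective (c'.left ≫ c.left) := inferInstance
    refine eq_of_surjective P.pr.left (c'.left ≫ c.left)
      ((f x₁ x₂ e₂ _).2.trans (f x₀ x₂ (e₁.trans e₂) v).2.symm) ?_
    have k1 := hΦ2 T₂ r' (c' ≫ c ≫ v₀) hv'
    have k2 := hΦ2 T₂ q (P.tr D.fibGrpd r' (c' ≫ c ≫ v₀) hv') ((P.tr_pr _ _ _ _).trans hrq)
    have k3 := hΦ2 T₂ (Arr.comp r' q hrq) (c' ≫ c ≫ v₀) hv'
    rw [P.tr_comp D.fibGrpd h𝒳' r' q hrq] at k2
    have t1 : r'.t.left = c'.left ≫ c.left ≫ x₁ := by
      rw [Arr.pull_t, ← hr2]; rfl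
    have t2 : q.t.left = c'.left ≫ c.left ≫ x₂ := by
      rw [← hq2]; rfl
    have hv2 : v.1 ≫ P.pr.left = x₀ := v.2
    have hf2 : (f x₀ x₁ e₁ v).1 ≫ P.pr.left = x₁ := (f x₀ x₁ e₁ v).2
    have a1 : (c'.left ≫ c.left) ≫ (f x₀ x₁ e₁ v).1 = (P.tr D.fibGrpd r' (c' ≫ c ≫ v₀) hv').left := by
      rw [← k1 (by simp [t1, v₀]; rw [reassoc_of% hv2, e₁] )]
      change (c'.left ≫ c.left) ≫ pullback.lift _ _ _ ≫ Φ = _
      rw [← Category.assoc]
      congr 1
      apply pullback.hom_ext <;> simp [t1, v₀]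
    have a2 : (c'.left ≫ c.left) ≫ (f x₁ x₂ e₂ (f x₀ x₁ e₁ v)).1 =
        (P.tr D.fibGrpd (Arr.comp r' q hrq) (c' ≫ c ≫ v₀) hv').left := by
      rw [← k2 (by rw [← a1, t2]; simp only [Category.assoc]; rw [reassoc_of% hf2, e₂])]
      change (c'.left ≫ c.left) ≫ pullback.lift _ _ _ ≫ Φ = _
      rw [← Category.assoc]
      congr 1
      apply pullback.hom_ext <;> simp [t2, ← a1]
    rw [a2, ← k3 (by
      change _ = q.t.left ≫ D.p.left
      simp [t2, v₀]; rw [reassoc_of% hv2, e₁, e₂])]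
    change _ = (c'.left ≫ c.left) ≫ pullback.lift _ _ _ ≫ Φ
    rw [← Category.assoc (c'.left ≫ c.left)]
    congr 1
    apply pullback.hom_ext <;> simp [Arr.comp, t2, v₀]
  let E : Desc.SchDD D.p.left :=
    { obj := L
      φ := fun T x₀ x₁ e =>
        { toFun := f x₀ x₁ e
          invFun := f x₁ x₀ e.symm
          left_inv := fun v => (hcomp x₀ x₁ x₀ e e.symm v).trans (hself x₀ v)
          right_inv := fun v => (hcomp x₁ x₀ x₁ e.symm e v).trans (hself x₁ v) }
      φ_natural := fun T T' g x₀ x₁ e e' v v' hv' => by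
        change pullback.lift _ _ _ ≫ Φ = g ≫ pullback.lift _ _ _ ≫ Φ
        rw [← Category.assoc g]
        congr 1
        apply pullback.hom_ext <;> simp [hv']
      φ_self := fun T x₀ v => hself x₀ v
      φ_comp := fun T x₀ x₁ x₂ e₁ e₂ v => hcomp x₀ x₁ x₂ e₁ e₂ v }
  refine ⟨E, rfl, fun T r v hv w v₀ hv₀ => ?_⟩
  change (pullback.lift _ _ _ ≫ Φ) ≫ 𝟙 _ = _
  rw [Category.comp_id, ← hΦ2 T r v hv (by
      rw [← w]
      exact (Category.assoc _ _ _).symm.trans (congrArg (fun m => m.left ≫ D.p.left) hv))]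
  congr 1
  apply pullback.hom_ext
  · simpa using hv₀
  · simp

end WNAData

end Groth.Agent.H14KM
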