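import Groth.Agent.H14KM.EtDatum
import Groth.Agent.H15Subtr.EtQC
import Groth.Agent.H14AlgSt.SourceDescent

/-!
# Effectivity of the descent datum along the projection to the quotient
-/

set_option autoImplicit false
set_option backward.isDefEq.respectTransparency false
set_option backward.isDefEq.respectTransparency.types false

universe u

open CategoryTheory CategoryTheory.Functor Opposite AlgebraicGeometry CategoryTheory.Limits

noncomputable section

namespace Groth.Agent.H14KM

open H14Fib H14Stk H14AlgSt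

namespace WNAData

variable {S : Scheme.{u}} {𝒳 : AlgSt.Cat S} {U : Over S} {x : FibCat.overCat U ⥤ᵇ 𝒳} (D : WNAData x)

lemma flat_lfp_s : Flat D.ρ.s.left ∧ LocallyOfFinitePresentation D.ρ.s.left := by
  have hx : AlgSt.RepByAlgSpWith (FLF S) x :=
    repWith_mono (fun _ _ _ h => ⟨⟨⟨h.1.1.2, h.1.2⟩, h.1.1.1⟩, h.2⟩)
      (repWith_inf (sourceIsoInv_locP _) (repWith_inf (sourceIsoInv_locP _)
        (repWith_inf sourceIsoInv_surjective D.finite D.surj) D.flat) D.lfp)
  obtain ⟨R', ρ', -, hfl, hfp, -, hρ'⟩ := exists_arrows D.fibGrpd hx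
  let k := ptOfArr D.fibGrpd ρ' hρ' D.ρ
  let k' := ptOfArr D.fibGrpd D.ρ D.universal ρ'
  have h1 : k ≫ k' = 𝟙 _ := pt_ext D.fibGrpd D.ρ D.universal (by
    rw [Arr.pull_comp, pull_ptOfArr, pull_ptOfArr, Arr.pull_id])
  have h2 : k' ≫ k = 𝟙 _ := pt_ext D.fibGrpd ρ' hρ' (by
    rw [Arr.pull_comp, pull_ptOfArr, pull_ptOfArr, Arr.pull_id])
  have : IsIso k.left := ⟨k'.left, congrArg (fun m => m.left) h1, congrArg (fun m => m.left) h2⟩
  have e : D.ρ.s.left = k.left ≫ ρ'.s.left :=
    congrArg (fun m => m.left) (ptOfArr_s D.fibGrpd ρ' hρ' D.ρ).symm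
  rw [e]
  exact ⟨inferInstance, inferInstance⟩

lemma flat_lfp_t : Flat D.ρ.t.left ∧ LocallyOfFinitePresentation D.ρ.t.left := by
  let i := inverse D.fibGrpd D.ρ D.universal
  have h : i ≫ i = 𝟙 _ := pt_ext D.fibGrpd D.ρ D.universal (by
    have e : Arr.pull D.fibGrpd i D.ρ = Arr.inv' D.fibGrpd D.ρ := pull_ptOfArr _ _ _ _
    rw [Arr.pull_comp, e, Arr.pull_inv', e, Arr.pull_id]
    obtain ⟨s, t, φ, hφ⟩ := D.ρ
    simp [Arr.inv'])
  have : IsIso i.left := ⟨i.left, congrArg (fun m => m.left) h, congrArg (fun m => m.left) h⟩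
  obtain ⟨h1, h2⟩ := D.flat_lfp_s
  have e : D.ρ.t.left = i.left ≫ D.ρ.s.left :=
    congrArg (fun m => m.left) (inverse_s D.fibGrpd D.ρ D.universal).symm
  rw [e]
  exact ⟨inferInstance, inferInstance⟩

/-- Two points of a base change with one image are joined by an arrow. -/
lemma exists_arr_of_eq {B : Scheme.{u}} (f : B ⟶ D.Y.left) (z z' : ↥(pullback D.p.left f))
    (e : pullback.snd D.p.left f z = pullback.snd D.p.left f z') :
    ∃ r : ↥(pullback (D.ρ.s.left ≫ D.p.left) f),
      pullback.map (D.ρ.s.left ≫ D.p.left) f D.p.left f D.ρ.s.left (𝟙 B) (𝟙 _) (by simp) (by simp) r = z ∧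
      pullback.map (D.ρ.s.left ≫ D.p.left) f D.p.left f D.ρ.t.left (𝟙 B) (𝟙 _) (by simp [D.w]) (by simp) r = z' := by
  obtain ⟨w, hw1, hw2⟩ := Scheme.Pullback.exists_preimage_pullback z z' e
  let P := pullback (pullback.snd D.p.left f) (pullback.snd D.p.left f)
  let Ω := AlgebraicClosure (P.residueField w)
  let zb : Spec (CommRingCat.of Ω) ⟶ P :=
    Spec.map (CommRingCat.ofHom (algebraMap (P.residueField w) Ω)) ≫ P.fromSpecResidueField w
  let a := zb ≫ pullback.fst _ _
  let a' := zb ≫ pullback.snd _ _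
  have haa : a ≫ pullback.snd D.p.left f = a' ≫ pullback.snd D.p.left f := by
    simp only [a, a', Category.assoc, pullback.condition]
  obtain ⟨r, hr1, hr2⟩ := D.trans Ω (a ≫ pullback.fst _ _) (a' ≫ pullback.fst _ _) (by
    rw [Category.assoc, pullback.condition, ← Category.assoc, haa, Category.assoc, ← pullback.condition,
      ← Category.assoc])
  let k := pullback.lift (f := D.ρ.s.left ≫ D.p.left) (g := f) r (a ≫ pullback.snd _ _) (by
    rw [reassoc_of% hr1, Category.assoc, pullback.condition]; simp [a])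
  let pt : ↥(Spec (CommRingCat.of Ω)) := IsLocalRing.closedPoint Ω
  have hzb : zb pt = w := (Scheme.Hom.comp_apply _ _ _).trans (Scheme.fromSpecResidueField_apply _ _)
  refine ⟨k pt, ?_, ?_⟩
  · have h : k ≫ pullback.map (D.ρ.s.left ≫ D.p.left) f D.p.left f D.ρ.s.left (𝟙 B) (𝟙 _) (by simp)
        (by simp) = a := by
      apply pullback.hom_ext
      · simp [k, hr1]
      · simp [k]
    exact (Scheme.Hom.comp_apply _ _ _).symm.trans ((congrArg (fun m => m pt) h).trans
      ((Scheme.Hom.comp_apply _ _ _).trans ((congrArg _ hzb).trans hw1)))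
  · have h : k ≫ pullback.map (D.ρ.s.left ≫ D.p.left) f D.p.left f D.ρ.t.left (𝟙 B) (𝟙 _)
        (by simp [D.w]) (by simp) = a' := by
      apply pullback.hom_ext
      · simp [k, hr2]
      · simp [k, haa]
    exact (Scheme.Hom.comp_apply _ _ _).symm.trans ((congrArg (fun m => m pt) h).trans
      ((Scheme.Hom.comp_apply _ _ _).trans ((congrArg _ hzb).trans hw2)))

/-- The projection to the quotient is universally open. -/
theorem universallyOpen_p : UniversallyOpen D.p.left := by
  have := D.integral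
  have := D.surjP
  obtain ⟨_, _⟩ := D.flat_lfp_t
  refine ⟨MorphismProperty.universally_mk' _ _ fun {B} f _ => ?_⟩
  let q := pullback.snd D.p.left f
  have : Surjective q := MorphismProperty.pullback_snd _ _ D.surjP
  have : IsIntegralHom q := MorphismProperty.pullback_snd _ _ D.integral
  let s' := pullback.map (D.ρ.s.left ≫ D.p.left) f D.p.left f D.ρ.s.left (𝟙 B) (𝟙 _) (by simp) (by simp)
  let t' := pullback.map (D.ρ.s.left ≫ D.p.left) f D.p.left f D.ρ.t.left (𝟙 B) (𝟙 _) (by simp [D.w]) (by simp)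
  have hsq : IsPullback (pullback.fst (D.ρ.s.left ≫ D.p.left) f) t' D.ρ.t.left (pullback.fst D.p.left f) :=
    IsPullback.of_bot (h₂₁ := pullback.fst _ _) (v₂₁ := pullback.snd D.p.left f) (v₁₁ := t')
      (by
        have h : t' ≫ pullback.snd D.p.left f = pullback.snd _ _ := (pullback.lift_snd _ _ _).trans (Category.comp_id _)
        rw [h, ← D.w]
        exact IsPullback.of_hasPullback _ _)
      (pullback.lift_fst _ _ _).symm (IsPullback.of_hasPullback _ _)
  have hst : s' ≫ q = t' ≫ q := by simp [s', t', q]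
  have : Flat t' := MorphismProperty.of_isPullback hsq inferInstance
  have : LocallyOfFinitePresentation t' := MorphismProperty.of_isPullback hsq inferInstance
  suffices hq : IsOpenMap q by
    rw [← pullbackSymmetry_hom_comp_snd]
    exact hq.comp (pullbackSymmetry f D.p.left).hom.homeomorph.isOpenMap
  intro V hV
  let V' : Set ↥(pullback D.p.left f) := t' '' (s' ⁻¹' V)
  have hV' : IsOpen V' := t'.isOpenMap _ (hV.preimage s'.continuous)
  have e : q ⁻¹' (q '' V) = V' := by
    ext z
    constructor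
    · rintro ⟨v, hv, hvz⟩
      obtain ⟨r, hr1, hr2⟩ := D.exists_arr_of_eq f v z hvz
      exact ⟨r, by show s' r ∈ V; rw [show s' r = v from hr1]; exact hv, hr2⟩
    · rintro ⟨r, hr, rfl⟩
      exact ⟨s' r, hr, (Scheme.Hom.comp_apply _ _ _).symm.trans
        ((congrArg (fun m => m r) hst).trans (Scheme.Hom.comp_apply _ _ _))⟩
  have e2 : q '' V = (q '' V'ᶜ)ᶜ := by
    rw [← e, ← Set.preimage_compl, Set.image_preimage_eq _ q.surjective, compl_compl]
  rw [e2]
  exact (q.isClosedMap _ hV'.isClosed_compl).isOpen_compl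

/-- An etale separated datum along the projection is effective, for a quasi-separated chart. -/
theorem exists_effective [QuasiSeparatedSpace U.left] (E : Desc.SchDD D.p.left) [Etale E.obj.hom]
    [IsSeparated E.obj.hom] :
    ∃ N : Over D.Y.left, IsSeparated N.hom ∧ Etale N.hom ∧
      Nonempty ((Desc.toDD D.p.left).obj N ≅ E) := by
  have := D.integral
  have := D.surjP
  have := D.universallyOpen_p
  refine H15Subtr.exists_effective_of_charts
    (H15Subtr.univSubmersive_of_universallyClosed D.p.left) E fun u => ?_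
  obtain ⟨U₀, hU₀, hu, -⟩ := exists_isAffineOpen_mem_and_subset (U := (⊤ : E.obj.left.Opens)) (x := u) trivial
  let O := H15Subtr.satOpen E U₀
  have hO : H13Desc.Eff.Saturated E O := H15Subtr.saturated_satOpen U₀
  have hc : IsCompact (O : Set E.obj.left) := H15Subtr.isCompact_satOpen hU₀.isCompact
  let E₀ := H13Desc.Eff.restrict hO
  have : Etale E₀.obj.hom := inferInstanceAs (Etale (O.ι ≫ E.obj.hom))
  have : IsSeparated E₀.obj.hom := inferInstanceAs (IsSeparated (O.ι ≫ E.obj.hom))
  have : CompactSpace O.toScheme := isCompact_iff_compactSpace.1 hc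
  have : QuasiCompact E₀.obj.hom := inferInstanceAs (QuasiCompact (O.ι ≫ E.obj.hom))
  obtain ⟨W, f, hW, hz⟩ :=
    H15Subtr.hasCharts_qc (H15Subtr.univSS_of_universallyClosed D.p.left) E₀
      ⟨u, H15Subtr.le_satOpen U₀ hu⟩
  exact H15Subtr.exists_chart_of_restrict hO f ⟨u, H15Subtr.le_satOpen U₀ hu⟩ hz

end WNAData

end Groth.Agent.H14KM
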