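import Groth.Agent.H14KM.ChartGrpd
import Groth.Agent.H14AlgSt.Points
import Groth.Agent.H14AlgSt.Faithful
import Groth.Agent.H14Fib.FpMap
import Groth.Agent.H12AlgSp.LQFScheme2
import Groth.Prelude.Def_StGerb2

/-!
# The pullback of an etale separated morphism of stacks to a chart
-/

set_option autoImplicit false
set_option backward.isDefEq.respectTransparency false
set_option backward.isDefEq.respectTransparency.types false

universe u

open CategoryTheory CategoryTheory.Functor Opposite AlgebraicGeometry CategoryTheory.Limits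

noncomputable section

namespace Groth.Agent.H14KM

open H14Fib H14Stk H14AlgSt

variable {S : Scheme.{u}} {𝒳 𝒳' : AlgSt.Cat S} {U : Over S}

/-- The pullback of a chart `x` along `h`, a scheme etale and separated over the chart. -/
structure EtPull (x : FibCat.overCat U ⥤ᵇ 𝒳) (h : 𝒳' ⥤ᵇ 𝒳) where
  /-- the scheme -/
  W : Over S
  /-- the projection to the chart -/
  pr : W ⟶ U
  etale : Etale pr.left
  sep : IsSeparated pr.left
  /-- the chart of the source -/
  x' : FibCat.overCat W ⥤ᵇ 𝒳'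
  /-- the compatibility of the charts -/
  α : BasedFunctor.comp (AlgSt.overMap pr) x ≅ BasedFunctor.comp x' h
  cart : FibCat.IsEquivOver (FibCat.fpLift (AlgSt.overMap pr) x' α)

/-- An etale separated morphism pulls back to a scheme over a chart. -/
theorem exists_etPull (x : FibCat.overCat U ⥤ᵇ 𝒳) {h : 𝒳' ⥤ᵇ 𝒳}
    (hh : AlgSt.RepByAlgSpWith (AlgSp.IsEtaleMor ⊓ AlgSp.IsSeparatedMor) h) :
    Nonempty (EtPull x h) := by
  obtain ⟨F, e, he, het, hsep⟩ := hh U x
  let π := AlgSt.spMapOfOver (BasedFunctor.comp e (FibCat.fpFst x h))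
  have hqf : AlgSp.LocP (@LocallyQuasiFinite ⊓ @LocallyOfFiniteType) π :=
    H12AlgSp.locP_mono (fun _ _ g (_ : Etale g) => ⟨H12AlgSp.lqf_of_etale g,
      (inferInstance : LocallyOfFiniteType g)⟩) (H12AlgSp.locP_etale_of_isEtaleMor het)
  obtain ⟨W, γ, μ, hμ, hγ⟩ := H12AlgSp.exists_iso_of_lqf_separated F.property hsep hqf
  have hE : FibCat.IsEquivOver
      (BasedFunctor.comp (AlgSt.ofOverCat W) (BasedFunctor.comp (AlgSt.ofSpMap μ) e)) := by
    have : IsIso μ.hom := (sheafToPresheaf _ _).map_isIso μ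
    exact isEquivOver_comp (ofOverCat_isEquivOver W)
      (isEquivOver_comp (isEquivOver_ofPshMap _) he)
  let E := BasedFunctor.comp (AlgSt.ofOverCat W) (BasedFunctor.comp (AlgSt.ofSpMap μ) e)
  obtain ⟨φ, ⟨i⟩⟩ := exists_overMap_iso (BasedFunctor.comp E (FibCat.fpFst x h))
  let Φ := BasedFunctor.comp e (FibCat.fpFst x h)
  have h1 : AlgSt.secHom Φ ⟨W, μ.hom.app (op W) (ULift.up (𝟙 W))⟩ = γ := by
    have e1 := congrArg (fun m => (m.hom.app (op W) (ULift.up (𝟙 W))).down) hγ
    exact e1.trans (Category.id_comp γ)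
  have hφ : φ = γ := by
    let j := isoApp i (topObj W)
    have hj : j.hom.left = _ := @IsHomLift.fac' _ _ _ _ (FibCat.overCat U).p _ _ _ _
      (𝟙 ((FibCat.overCat W).p.obj (topObj W))) j.hom (isoApp_lift i (topObj W))
    have hw : j.hom.left ≫ (𝟙 W ≫ φ) = (Φ.obj ⟨W, μ.hom.app (op W) (ULift.up (𝟙 W))⟩).hom :=
      Over.w j.hom
    rw [← h1, AlgSt.secHom, ← hw, hj]
    simp only [Category.assoc, Category.id_comp, eqToHom_trans_assoc, eqToHom_refl]
    exact (Category.id_comp φ).symm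
  subst hφ
  have hμγ : AlgSp.IsEtaleMor ((AlgSp.yon S).map φ) ∧ AlgSp.IsSeparatedMor ((AlgSp.yon S).map φ) := by
    rw [← hγ]
    exact ⟨fun _ ψ hψ => by
      rw [← Category.assoc]
      exact het _ (H12AlgSp.repWith_comp hψ (H12AlgSp.repWith_of_isIso μ)),
      H12AlgSp.isSeparatedMor_comp (H12AlgSp.isSeparatedMor_of_mono μ) hsep⟩
  let L := BasedFunctor.comp E (FibCat.fpSnd x h)
  let α₁ : BasedFunctor.comp (AlgSt.overMap φ) x ≅
      BasedFunctor.comp (BasedFunctor.comp E (FibCat.fpFst x h)) x := (post _ x).mapIso i.symm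
  let α₂ : BasedFunctor.comp (BasedFunctor.comp E (FibCat.fpFst x h)) x ≅ BasedFunctor.comp L h :=
    (Stk.restr E _).mapIso (FibCat.fpIso x h)
  let α := α₁ ≪≫ α₂
  refine ⟨⟨W, φ, (AlgSp.isEtaleMor_yon_map_iff φ).1 hμγ.1,
    (AlgSp.isSeparatedMor_yon_map_iff φ).1 hμγ.2, L, α, ?_⟩⟩
  refine isEquivOver_of_iso (mkIso (fun a => fpIsoMk (isoApp i a) (Iso.refl _) ?_) ?_ ?_) hE
  · change x.map (isoApp i a).hom ≫ x.map (isoApp i.symm a).hom ≫ (E.obj a).obj.iso.hom =
      (E.obj a).obj.iso.hom ≫ h.map (𝟙 _)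
    rw [h.toFunctor.map_id, Category.comp_id, ← Category.assoc, ← x.toFunctor.map_comp,
      show (isoApp i a).hom ≫ (isoApp i.symm a).hom = 𝟙 _ from (isoApp i a).hom_inv_id,
      x.toFunctor.map_id, Category.id_comp]
  · intro a b m
    apply ObjectProperty.hom_ext
    apply CategoricalPullback.hom_ext
    · exact i.hom.toNatTrans.naturality m
    · exact (Category.comp_id _).trans (Category.id_comp _).symm
  · intro a
    exact (fp_isHomLift_iff _ _).2 (isoApp_lift i a)

end Groth.Agent.H14KM
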