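import Groth.Agent.H14KM.EtPull

/-!
# Transport along arrows in the pullback of an etale morphism preserving stabilizers
-/

set_option autoImplicit false
set_option backward.isDefEq.respectTransparency false
set_option backward.isDefEq.respectTransparency.types false

universe u

open CategoryTheory CategoryTheory.Functor Opposite AlgebraicGeometry CategoryTheory.Limits

noncomputable section

namespace Groth.Agent.H14KM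

open H14Fib H14Stk H14AlgSt

namespace EtPull

variable {S : Scheme.{u}} {𝒳 𝒳' : AlgSt.Cat S} {U : Over S} {x : FibCat.overCat U ⥤ᵇ 𝒳}
  {h : 𝒳' ⥤ᵇ 𝒳} (P : EtPull x h) {T T' : Over S}

/-- The comparison at a point. -/
def pα (u : T ⟶ P.W) : xo x (u ≫ P.pr) ⟶ h.obj (xo P.x' u) := (isoApp P.α (Over.mk u)).hom

lemma pα_lift (u : T ⟶ P.W) : 𝒳.p.IsHomLift (𝟙 T) (P.pα u) := isoApp_lift P.α (Over.mk u)

lemma pα_natural (g : T' ⟶ T) {u' : T' ⟶ P.W} {u : T ⟶ P.W} (e : g ≫ u = u') :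
    xm x g (by rw [← e, Category.assoc]) ≫ P.pα u = P.pα u' ≫ h.map (xm P.x' g e) := by
  refine Eq.trans ?_ (P.α.hom.toNatTrans.naturality (Over.homMk g e : Over.mk u' ⟶ Over.mk u))
  exact congrArg (fun m => m ≫ P.pα u) (congrArg x.map (Over.OverMorphism.ext rfl))

variable {w : T ⟶ U} {η : 𝒳'.obj}

/-- `v` is the point of a pair of a point of the chart and a compatible object of the source. -/
def IsPt (ψ : xo x w ⟶ h.obj η) (v : T ⟶ P.W) : Prop :=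
  ∃ (e : v ≫ P.pr = w) (β : xo P.x' v ⟶ η), 𝒳'.p.IsHomLift (𝟙 T) β ∧
    xm x (𝟙 T) ((Category.id_comp w).trans e.symm) ≫ ψ = P.pα v ≫ h.map β

lemma IsPt.pr {ψ : xo x w ⟶ h.obj η} {v : T ⟶ P.W} (H : P.IsPt ψ v) : v ≫ P.pr = w := H.1

variable (h𝒳 : FibCat.IsFibGrpd 𝒳.p) (h𝒳' : FibCat.IsFibGrpd 𝒳'.p)

include h𝒳 in
lemma exists_isPt (ψ : xo x w ⟶ h.obj η) (hψ : 𝒳.p.IsHomLift (𝟙 T) ψ) : ∃ v, P.IsPt ψ v := by
  have := isIso_of_fibGrpd h𝒳 (𝟙 T) ψ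
  let ω : (FibCat.fp x h).obj := fpObj (F := x) (G := h) (Over.mk w) η (asIso ψ) rfl hψ
  obtain ⟨ξ, e, he⟩ := essSurjOver_of_isEquivOver P.cart ω
  have hT : ξ.left = T := EssSurjOver.obj_eq e.hom
  subst hT
  have h1 : (FibCat.overCat U).p.IsHomLift (𝟙 ξ.left) e.hom.hom.fst := (fp_isHomLift_iff _ _).1 he
  have h2 : e.hom.hom.fst.left = 𝟙 ξ.left :=
    (@IsHomLift.eq_of_isHomLift _ _ _ _ (FibCat.overCat U).p (Over.mk (ξ.hom ≫ P.pr)) (Over.mk w) (𝟙 ξ.left)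
      e.hom.hom.fst h1).symm
  have hv : ξ.hom ≫ P.pr = w := by
    have := Over.w e.hom.hom.fst
    rw [h2] at this
    exact this.symm.trans (Category.id_comp w)
  have h3 : 𝒳'.p.IsHomLift (𝟙 ξ.left) e.hom.hom.snd :=
    @fp_isHomLift_snd' _ _ _ _ _ _ _ _ _ _ _ _ (e.hom) he
  refine ⟨ξ.hom, hv, e.hom.hom.snd, h3, ?_⟩
  refine Eq.trans ?_ e.hom.hom.w
  exact congrArg (fun m => m ≫ ψ) (congrArg x.map (Over.OverMorphism.ext h2.symm))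

include h𝒳' in
lemma IsPt.unique {ψ : xo x w ⟶ h.obj η} {v v' : T ⟶ P.W} (H : P.IsPt ψ v) (H' : P.IsPt ψ v') :
    v = v' := by
  obtain ⟨e, β, hβ, hw⟩ := H
  obtain ⟨e', β', hβ', hw'⟩ := H'
  have := isIso_of_fibGrpd h𝒳' (𝟙 T) β'
  let L := FibCat.fpLift (AlgSt.overMap P.pr) P.x' P.α
  let m : L.obj (Over.mk v) ⟶ L.obj (Over.mk v') :=
    fpHom (Over.homMk (𝟙 T) (by change 𝟙 T ≫ v' ≫ P.pr = v ≫ P.pr; rw [Category.id_comp, e, e']))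
      (β ≫ CategoryTheory.inv β') (by
      change xm x (𝟙 T) (show 𝟙 T ≫ v' ≫ P.pr = v ≫ P.pr by rw [Category.id_comp, e, e']) ≫ P.pα v' =
        P.pα v ≫ h.map (β ≫ CategoryTheory.inv β')
      rw [← cancel_mono (h.map β'), Category.assoc, Category.assoc, ← hw', ← h.toFunctor.map_comp,
        Category.assoc, IsIso.inv_hom_id, Category.comp_id, ← hw, ← Category.assoc, xm_comp]
      first | rfl | (congr 1; exact xm_congr x (Category.comp_id _) _))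
  have := ((isEquivOver_iff L).1 P.cart).1.1
  obtain ⟨k, hk⟩ := L.toFunctor.map_surjective m
  have h2 : k.left = 𝟙 T := congrArg (fun n => n.hom.fst.left) hk
  have := Over.w k
  rw [h2] at this
  exact (this.symm.trans (Category.id_comp v'))

lemma IsPt.comp_map {ψ : xo x w ⟶ h.obj η} {v : T ⟶ P.W} (H : P.IsPt ψ v) {η' : 𝒳'.obj}
    (β : η ⟶ η') (hβ : 𝒳'.p.IsHomLift (𝟙 T) β) : P.IsPt (ψ ≫ h.map β) v := by
  obtain ⟨e, β₀, hβ₀, hw⟩ := H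
  exact ⟨e, β₀ ≫ β, homLift_id_comp hβ₀ hβ,
    by rw [← Category.assoc, hw, Category.assoc, h.toFunctor.map_comp]⟩

include h𝒳 h𝒳' in
lemma IsPt.pullback {ψ : xo x w ⟶ h.obj η} {v : T ⟶ P.W} (H : P.IsPt ψ v) (g : T' ⟶ T)
    {η' : 𝒳'.obj} (χ : η' ⟶ η) (hχ : 𝒳'.p.IsHomLift g χ) {w' : T' ⟶ U} (hw' : g ≫ w = w')
    (ψ' : xo x w' ⟶ h.obj η') (hψ' : 𝒳.p.IsHomLift (𝟙 T') ψ')
    (hc : ψ' ≫ h.map χ = xm x g hw' ≫ ψ) : P.IsPt ψ' (g ≫ v) := by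
  obtain ⟨e, β, hβ, hw⟩ := H
  have := sc_of_fibGrpd h𝒳' g χ
  have hl : 𝒳'.p.IsHomLift g (xm P.x' g (rfl : g ≫ v = g ≫ v) ≫ β) := by
    have := homLift_comp' (xm_lift P.x' g (rfl : g ≫ v = g ≫ v)) hβ
    rwa [Category.comp_id] at this
  let β' := IsCartesian.map 𝒳'.p g χ (xm P.x' g (rfl : g ≫ v = g ≫ v) ≫ β)
  have hβ'l : 𝒳'.p.IsHomLift (𝟙 T') β' := inferInstance
  refine ⟨by rw [Category.assoc, e, hw'], β', hβ'l, ?_⟩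
  have h4 : 𝒳.p.IsHomLift g (h.map χ) := BasedFunctor.preserves_isHomLift h g χ
  have := sc_of_fibGrpd h𝒳 g (h.map χ)
  have ha : 𝒳.p.IsHomLift (𝟙 T') (xm x (𝟙 T') ((Category.id_comp w').trans
      (show (g ≫ v) ≫ P.pr = w' by rw [Category.assoc, e, hw']).symm) ≫ ψ') :=
    homLift_id_comp (xm_lift x _ _) hψ'
  have hb : 𝒳.p.IsHomLift (𝟙 T') (P.pα (g ≫ v) ≫ h.map β') :=
    homLift_id_comp (P.pα_lift _) (BasedFunctor.preserves_isHomLift h (𝟙 T') β')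
  apply IsStronglyCartesian.ext 𝒳.p g (h.map χ) (𝟙 T')
  simp only [Category.assoc]
  rw [hc, ← h.toFunctor.map_comp, IsCartesian.fac,
    h.toFunctor.map_comp, ← Category.assoc (P.pα (g ≫ v)), ← P.pα_natural g (rfl : g ≫ v = g ≫ v),
    ]
  simp only [Category.assoc]
  rw [← hw, xm_comp_assoc, xm_comp_assoc]
  congr 1


/-- The target of an arrow with the object of a point over its source. -/
def trψ (r : Arr x T) (v : T ⟶ P.W) (hv : v ≫ P.pr = r.s) : xo x r.t ⟶ h.obj (xo P.x' v) :=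
  (Arr.inv' h𝒳 r).φ ≫ xm x (𝟙 T) ((Category.id_comp _).trans hv) ≫ P.pα v

lemma trψ_lift (r : Arr x T) (v : T ⟶ P.W) (hv : v ≫ P.pr = r.s) :
    𝒳.p.IsHomLift (𝟙 T) (P.trψ h𝒳 r v hv) :=
  homLift_id_comp (Arr.inv' h𝒳 r).lift (homLift_id_comp (xm_lift x _ _) (P.pα_lift v))

/-- Transport along an arrow. -/
def tr (r : Arr x T) (v : T ⟶ P.W) (hv : v ≫ P.pr = r.s) : T ⟶ P.W :=
  (P.exists_isPt h𝒳 (P.trψ h𝒳 r v hv) (P.trψ_lift h𝒳 r v hv)).choose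

lemma isPt_tr (r : Arr x T) (v : T ⟶ P.W) (hv : v ≫ P.pr = r.s) :
    P.IsPt (P.trψ h𝒳 r v hv) (P.tr h𝒳 r v hv) :=
  (P.exists_isPt h𝒳 (P.trψ h𝒳 r v hv) (P.trψ_lift h𝒳 r v hv)).choose_spec

@[simp] lemma tr_pr (r : Arr x T) (v : T ⟶ P.W) (hv : v ≫ P.pr = r.s) :
    P.tr h𝒳 r v hv ≫ P.pr = r.t := (P.isPt_tr h𝒳 r v hv).1

include h𝒳' in
lemma tr_natural (r : Arr x T) (v : T ⟶ P.W) (hv : v ≫ P.pr = r.s) (g : T' ⟶ T) :
    g ≫ P.tr h𝒳 r v hv = P.tr h𝒳 (Arr.pull h𝒳 g r) (g ≫ v)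
      (by rw [Category.assoc, hv, Arr.pull_s]) := by
  refine IsPt.unique P h𝒳' ?_ (P.isPt_tr h𝒳 _ _ _)
  refine IsPt.pullback P h𝒳 h𝒳' (P.isPt_tr h𝒳 r v hv) g (xm P.x' g rfl) (xm_lift _ _ _)
    (Arr.pull_t _ _ _).symm _ (P.trψ_lift h𝒳 _ _ _) ?_
  have hrel := Arr.pull_rel h𝒳 g (Arr.inv' h𝒳 r)
  rw [Arr.pull_inv'] at hrel
  obtain ⟨es, et, er⟩ := hrel
  simp only [trψ, Category.assoc]
  rw [← P.pα_natural g rfl, ← Category.assoc (xm x (𝟙 T') _), xm_comp,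
    ← Category.assoc (xm x g _), ← er]
  simp only [Category.assoc, xm_comp_assoc]
  congr 2


include h𝒳' in
lemma tr_id (v : T ⟶ P.W) : P.tr h𝒳 (Arr.id' x (v ≫ P.pr)) v rfl = v := by
  refine (IsPt.unique P h𝒳' ?_ (P.isPt_tr h𝒳 _ _ _)).symm
  refine ⟨rfl, 𝟙 _, IsHomLift.id (xo_obj P.x' v), ?_⟩
  simp [trψ, Arr.inv', Arr.id']

include h𝒳' in
lemma tr_comp (r q : Arr x T) (e : r.t = q.s) (v : T ⟶ P.W) (hv : v ≫ P.pr = r.s) :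
    P.tr h𝒳 q (P.tr h𝒳 r v hv) ((P.tr_pr h𝒳 r v hv).trans e) =
      P.tr h𝒳 (Arr.comp r q e) v hv := by
  obtain ⟨e₁, β, hβ, hw⟩ := P.isPt_tr h𝒳 r v hv
  refine IsPt.unique P h𝒳' ?_ (P.isPt_tr h𝒳 _ _ _)
  have key := IsPt.comp_map P (P.isPt_tr h𝒳 q (P.tr h𝒳 r v hv) ((P.tr_pr h𝒳 r v hv).trans e)) β hβ
  obtain ⟨s₁, t₁, φ₁, hφ₁⟩ := r
  obtain ⟨s₂, t₂, φ₂, hφ₂⟩ := q
  dsimp at e
  subst e
  refine Eq.mp (congrArg (fun ψ => P.IsPt ψ _) ?_) key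
  simp only [trψ, Category.assoc] at hw ⊢
  rw [← hw, ← Category.assoc (xm x (𝟙 T) _) (xm x (𝟙 T) _), xm_comp, xm_eq x (Category.comp_id _),
    Category.id_comp, ← Category.assoc]
  congr 1
  simp [Arr.inv', Arr.comp]

include h𝒳' in
/-- Transport depends only on the ends of the arrow. -/
lemma tr_eq_of_ends (haut : ∀ a : 𝒳'.obj, Function.Surjective (Gerb.autMap h a)) (r r' : Arr x T)
    (hs : r.s = r'.s) (ht : r.t = r'.t) (v : T ⟶ P.W) (hv : v ≫ P.pr = r.s) :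
    P.tr h𝒳 r v hv = P.tr h𝒳 r' v (hv.trans hs) := by
  obtain ⟨s, t, φ, hφ⟩ := r
  obtain ⟨s', t', φ', hφ'⟩ := r'
  dsimp at hs ht
  subst hs ht
  let η := xo P.x' v
  let ψ := P.trψ h𝒳 ⟨s, t, φ, hφ⟩ v hv
  let ψ' := P.trψ h𝒳 ⟨s, t, φ', hφ'⟩ v hv
  have hψ : 𝒳.p.IsHomLift (𝟙 T) ψ := P.trψ_lift h𝒳 _ _ _
  have hψ' : 𝒳.p.IsHomLift (𝟙 T) ψ' := P.trψ_lift h𝒳 _ _ _
  have := isIso_of_fibGrpd h𝒳 (𝟙 T) ψ
  have := isIso_of_fibGrpd h𝒳 (𝟙 T) ψ'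
  have hη : 𝒳.p.obj (h.obj η) = T := (h.w_obj η).trans (xo_obj P.x' v)
  let γ : h.obj η ≅ h.obj η := (asIso ψ).symm ≪≫ asIso ψ'
  have hγ : 𝒳.p.IsHomLift (𝟙 T) γ.hom :=
    homLift_id_comp (@IsHomLift.lift_id_inv _ _ _ _ 𝒳.p T _ _ (asIso ψ) hψ) hψ'
  have hγ' : ∀ V, 𝒳.p.obj (h.obj η) = V → 𝒳.p.IsHomLift (𝟙 V) γ.hom := by
    rintro V rfl; exact hη ▸ hγ
  have hγ'' : 𝒳.p.IsHomLift (𝟙 (𝒳.p.obj (h.obj η))) γ.hom := hγ' _ rfl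
  obtain ⟨δ, hδ⟩ := haut η (H14Fib.fiberIso (a := Gerb.fib (h.obj η)) (b := Gerb.fib (h.obj η)) γ hγ'')
  have hδ' : h.map δ.hom.1 = γ.hom := congrArg (fun t => t.hom.1) hδ
  have hδl : 𝒳'.p.IsHomLift (𝟙 T) δ.hom.1 := by
    have := δ.hom.2
    have e : 𝒳'.p.obj η = T := xo_obj P.x' v
    exact e ▸ this
  have key := IsPt.comp_map P (P.isPt_tr h𝒳 ⟨s, t, φ, hφ⟩ v hv) δ.hom.1 hδl
  refine IsPt.unique P h𝒳' ?_ (P.isPt_tr h𝒳 _ _ _)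
  refine Eq.mp (congrArg (fun ψ₀ => P.IsPt ψ₀ _) ?_) key
  rw [hδ']
  simp [γ, ψ, ψ']

end EtPull

end Groth.Agent.H14KM
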