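import Groth.Agent.H8Props.AmpleBatch
import Groth.Agent.H17.Ample.LocalProj
import Groth.Agent.H13Desc.Eff.FinLocFreeApps
import Groth.Prelude.Def_RedSub

/-!
# Finite sets in the fibres of a locally quasi-projective scheme lie in affine opens
-/

set_option autoImplicit false
set_option backward.isDefEq.respectTransparency false

universe u

open CategoryTheory CategoryTheory.Limits AlgebraicGeometry TopologicalSpace

namespace Groth.Agent.H14KM

/-- A finite set of points over one point of the base lies in an affine open. -/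
theorem exists_affine_of_finite {S : Scheme.{u}} {U : Over S} (hU : RedSub.IsLocallyQuasiProjective U)
    {E : Set U.left} (hE : E.Finite) (s : S) (hEs : ∀ e ∈ E, U.hom e = s) :
    ∃ W : U.left.Opens, IsAffineOpen W ∧ E ⊆ (W : Set U.left) := by
  classical
  obtain ⟨V₀, hs₀, n, e₀, he₀, he₀'⟩ := hU s
  obtain ⟨_, ⟨V : S.Opens, hV, rfl⟩, hsV, hVle⟩ :=
    S.isBasis_affineOpens.exists_subset_of_mem_open hs₀ V₀.2
  have hmem : ∀ x : E, ∃ A : U.left.Opens, IsAffineOpen A ∧ (x : U.left) ∈ A ∧ A ≤ U.hom ⁻¹ᵁ V :=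
    fun x => by
      obtain ⟨_, ⟨A : U.left.Opens, hA, rfl⟩, hxA, hle⟩ :=
        U.left.isBasis_affineOpens.exists_subset_of_mem_open (a := (x : U.left))
          (u := (U.hom ⁻¹ᵁ V : U.left.Opens)) (by show U.hom x.1 ∈ V; rw [hEs x.1 x.2]; exact hsV)
          (U.hom ⁻¹ᵁ V).2
      exact ⟨A, hA, hxA, hle⟩
  choose A hA hxA hle using hmem
  have : Finite E := hE
  let O : U.left.Opens := ⨆ x : E, A x
  have hO : IsCompact (O : Set U.left) := by
    rw [show (O : Set U.left) = ⋃ x : E, (A x : Set U.left) from Opens.coe_iSup _]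
    exact isCompact_iUnion fun x => (hA x).isCompact
  have hEO : E ⊆ (O : Set U.left) := fun x hx => Opens.mem_iSup.2 ⟨⟨x, hx⟩, hxA _⟩
  have hOV : O ≤ U.hom ⁻¹ᵁ V := iSup_le hle
  let a : O.toScheme ⟶ V.toScheme := IsOpenImmersion.lift V.ι (O.ι ≫ U.hom) (by
    rw [Scheme.Opens.range_ι]
    rintro _ ⟨z, rfl⟩
    exact hOV z.2)
  have ha : a ≫ V.ι = O.ι ≫ U.hom := IsOpenImmersion.lift_fac _ _ _
  let c := S.homOfLE (hVle : V ≤ V₀)
  let j : O.toScheme ⟶ (Red.bc V₀.ι U).left := pullback.lift O.ι (a ≫ c) (by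
    rw [Category.assoc, Scheme.homOfLE_ι, ha])
  have hjfst : j ≫ pullback.fst U.hom V₀.ι = O.ι := pullback.lift_fst _ _ _
  have hjhom : j ≫ (Red.bc V₀.ι U).hom = a ≫ c := pullback.lift_snd _ _ _
  have : IsOpenImmersion (pullback.fst U.hom V₀.ι) := inferInstance
  have : IsOpenImmersion (j ≫ pullback.fst U.hom V₀.ι) := hjfst ▸ inferInstance
  have : IsOpenImmersion j := IsOpenImmersion.of_comp j (pullback.fst U.hom V₀.ι)
  let π := CohB1.ProjSpaceOver.toBase n (V₀ : Scheme.{u})
  let k : O.toScheme ⟶ pullback π c := pullback.lift (j ≫ e₀) a (by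
    rw [Category.assoc, he₀', hjhom])
  have hk : k ≫ pullback.fst π c = j ≫ e₀ := pullback.lift_fst _ _ _
  have := he₀
  have : IsImmersion (j ≫ e₀) := inferInstance
  have : IsImmersion (k ≫ pullback.fst π c) := hk ▸ this
  have : IsImmersion k := IsImmersion.of_comp k (pullback.fst π c)
  have : CompactSpace O.toScheme := isCompact_iff_compactSpace.1 hO
  have : IsAffine V.toScheme := hV
  have hrel := Groth.Agent.H8Props.Ample.isRelAmple_twistOver n (V₀ : Scheme.{u})
  have : QuasiCompact π := hrel.1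
  have : QuasiCompact (pullback.snd π c) := MorphismProperty.pullback_snd _ _ ‹QuasiCompact π›
  have hM := H11Ample.isRelAmple_iff_isAmple_of_isAffine.1 (H11Ample.isRelAmple_baseChange π c hrel)
  have hL := H8Props.Ample.isAmple_pullback_of_isEmbedding k k.isEmbedding hM
  have hfin : {z : O.toScheme | (z.1 : U.left) ∈ E}.Finite :=
    hE.preimage (Set.injOn_of_injective Subtype.val_injective)
  obtain ⟨W, hW, hEW⟩ := H13Desc.Eff.exists_affine_of_isAmple hL hfin.toFinset
  refine ⟨O.ι ''ᵁ W, hW.image_of_isOpenImmersion O.ι, fun x hx => ?_⟩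
  exact ⟨⟨x, hEO hx⟩, hEW _ (hfin.mem_toFinset.2 hx), rfl⟩

end Groth.Agent.H14KM
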