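import Groth.Agent.H14KM.WNAQuot
import Groth.Agent.H14KM.OrbitAffine

/-!
# The quotient of a finite locally free chart whose orbits lie in affine opens
-/

set_option autoImplicit false
set_option backward.isDefEq.respectTransparency false
set_option backward.isDefEq.respectTransparency.types false

universe u

open CategoryTheory CategoryTheory.Functor Opposite AlgebraicGeometry CategoryTheory.Limits
open AlgSp (yon J)

noncomputable section

namespace Groth.Agent.H14KM

open H14Fib H14Stk H14AlgSt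

/-- Relation quotients transport along isomorphisms. -/
lemma IsRelQuot.of_iso {X Y R X' R' : Scheme.{u}} {p : X ⟶ Y} {σ τ : R ⟶ X} (h : IsRelQuot p σ τ)
    (eX : X' ≅ X) (eR : R' ≅ R) {p' : X' ⟶ Y} {σ' τ' : R' ⟶ X'} (hp : eX.hom ≫ p = p')
    (hσ : σ' ≫ eX.hom = eR.hom ≫ σ) (hτ : τ' ≫ eX.hom = eR.hom ≫ τ) : IsRelQuot p' σ' τ' := by
  have := h.integral
  have := h.finite
  have hσ' : σ' = eR.hom ≫ σ ≫ eX.inv := by rw [← reassoc_of% hσ, Iso.hom_inv_id, Category.comp_id]
  have hτ' : τ' = eR.hom ≫ τ ≫ eX.inv := by rw [← reassoc_of% hτ, Iso.hom_inv_id, Category.comp_id]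
  subst hp hσ' hτ'
  have hinjX : Function.Injective eX.hom.appTop :=
    (ConcreteCategory.bijective_of_isIso eX.hom.appTop).1
  have hinjR : Function.Injective eR.hom.appTop :=
    (ConcreteCategory.bijective_of_isIso eR.hom.appTop).1
  refine ⟨inferInstance, inferInstance, by simp [h.w], ?_, fun a ha => ?_,
    fun Ω _ _ x x' hx => ?_⟩
  · rw [Scheme.Hom.comp_appTop]
    exact hinjX.comp h.inj
  · simp only [Scheme.Hom.comp_appTop, CommRingCat.comp_apply] at ha
    obtain ⟨b, hb⟩ := h.range (eX.inv.appTop a) (hinjR ha)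
    refine ⟨b, ?_⟩
    rw [Scheme.Hom.comp_appTop, CommRingCat.comp_apply, hb, ← CommRingCat.comp_apply,
      ← Scheme.Hom.comp_appTop, eX.hom_inv_id]
    simp
  · obtain ⟨r, hr1, hr2⟩ := h.trans Ω (x ≫ eX.hom) (x' ≫ eX.hom) (by simpa using hx)
    exact ⟨r ≫ eR.inv, by simp [reassoc_of% hr1], by simp [reassoc_of% hr2]⟩

/-- Flat affine base change, along cartesian squares. -/
lemma IsRelQuot.baseChange' {X Y E R X' R' : Scheme.{u}} [IsAffine X] [IsAffine Y] [IsAffine E]
    [IsAffine R] {p : X ⟶ Y} {σ τ : R ⟶ X} (h : IsRelQuot p σ τ) {e : E ⟶ Y} [Flat e]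
    {pr : X' ⟶ E} {a : X' ⟶ X} (sq : IsPullback a pr p e) {prR : R' ⟶ E} {b : R' ⟶ R}
    (sqR : IsPullback b prR (σ ≫ p) e) {σ' τ' : R' ⟶ X'} (hσ₁ : σ' ≫ a = b ≫ σ)
    (hσ₂ : σ' ≫ pr = prR) (hτ₁ : τ' ≫ a = b ≫ τ) (hτ₂ : τ' ≫ pr = prR) : IsRelQuot pr σ' τ' := by
  refine (h.baseChange e).of_iso sq.isoPullback sqR.isoPullback sq.isoPullback_hom_snd ?_ ?_ <;>
    apply pullback.hom_ext <;> simp [pullback.map, hσ₁, hσ₂, hτ₁, hτ₂]

variable {S : Scheme.{u}} {𝒳 : AlgSt.Cat S} {U : Over S}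

open H13Grpd in
/-- Base changes of the projection to the quotient, over an invariant affine. -/
lemma isRelQuot_bc_proj (G : Grpd.GroupoidScheme S) [IsFinite G.s] [Flat G.s]
    [LocallyOfFinitePresentation G.s]
    (hb : ∀ x : G.U, ∃ V : G.U.Opens, IsAffineOpen V ∧ G.t.base '' (G.s.base ⁻¹' {x}) ⊆ (V : Set G.U))
    (W : InvAff G) {B : Scheme.{u}} [IsAffine B] (e : B ⟶ Quotient G) [Flat e]
    (he : Set.range e ⊆ Set.range (chart W)) :
    IsRelQuot (pullback.snd (proj hb) e)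
      (pullback.map (G.s ≫ proj hb) e (proj hb) e G.s (𝟙 B) (𝟙 _) (by simp) (by simp))
      (pullback.map (G.s ≫ proj hb) e (proj hb) e G.t (𝟙 B) (𝟙 _) (by simp [t_proj hb]) (by simp)) := by
  let e₀ : B ⟶ quotOf W := IsOpenImmersion.lift (chart W) e he
  have he₀ : e₀ ≫ chart W = e := IsOpenImmersion.lift_fac _ _ _
  have : Flat e₀ := by
    have h1 : IsPullback e₀ (𝟙 B) (chart W) e :=
      IsOpenImmersion.isPullback _ _ _ _ (by rw [he₀]; simp) (by
        ext z
        exact ⟨fun _ => ⟨z, rfl⟩, fun _ => he ⟨z, rfl⟩⟩)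
    exact MorphismProperty.of_isPullback (P := @Flat) h1.flip ‹Flat e›
  have hq : IsRelQuot (qOf W) (G.s ∣_ W.opens) (restrT W.inv) := isRelQuot_toQuot (restr W.inv)
  have hT : pullback.snd (proj hb) e ≫ e₀ ≫ chart W = pullback.fst (proj hb) e ≫ proj hb := by
    rw [he₀, pullback.condition]
  obtain ⟨a, ha1, ha2⟩ := (isPullback_chart hb W).exists_lift (pullback.snd (proj hb) e ≫ e₀)
    (pullback.fst (proj hb) e) (by rw [Category.assoc, hT])
  have sq : IsPullback a (pullback.snd (proj hb) e) (qOf W) e₀ := by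
    refine IsPullback.of_right (h₁₂ := W.opens.ι) (h₂₂ := chart W) (v₁₃ := proj hb) ?_ ha1
      (isPullback_chart hb W).flip
    rw [ha2, he₀]
    exact IsPullback.of_hasPullback (proj hb) e
  have sq0 := ((isPullback_morphismRestrict G.s W.opens).paste_horiz (isPullback_chart hb W)).flip
  obtain ⟨b, hb1, hb2⟩ := sq0.exists_lift (pullback.fst (G.s ≫ proj hb) e)
    (pullback.snd (G.s ≫ proj hb) e ≫ e₀) (by rw [Category.assoc, he₀, pullback.condition])
  have sqR : IsPullback b (pullback.snd (G.s ≫ proj hb) e) (G.s ∣_ W.opens ≫ qOf W) e₀ := by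
    refine IsPullback.of_right (h₁₂ := (G.s ⁻¹ᵁ W.opens).ι) (h₂₂ := chart W)
      (v₁₃ := G.s ≫ proj hb) ?_ hb2 sq0
    rw [hb1, he₀]
    exact IsPullback.of_hasPullback (G.s ≫ proj hb) e
  refine hq.baseChange' sq sqR ?_ (by simp [pullback.map]) ?_ (by simp [pullback.map])
  · rw [← cancel_mono W.opens.ι]
    simp only [Category.assoc, ha2, morphismRestrict_ι, reassoc_of% hb1]
    simp [pullback.map]
  · rw [← cancel_mono W.opens.ι]
    simp only [Category.assoc, ha2, restrT_ι, reassoc_of% hb1]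
    simp [pullback.map]

open H13Grpd in
/-- The quotient data of a finite locally free chart with orbits in affine opens. -/
theorem exists_wnaData_of_orbits (h𝒳 : AlgSt.IsAlgStack Scheme.fppfPrecoverage 𝒳)
    {x : FibCat.overCat U ⥤ᵇ 𝒳} (hx : AlgSt.RepByAlgSpWith (FLF S) x)
    (hfin : ∀ (E : Set U.left), E.Finite → ∀ s : S, (∀ e ∈ E, U.hom e = s) →
      ∃ W : U.left.Opens, IsAffineOpen W ∧ E ⊆ (W : Set U.left)) : Nonempty (WNAData x) := by
  have hG := h𝒳.isStack.1
  obtain ⟨R, ρ, h1, h2, h3, -, h5⟩ := exists_arrows hG hx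
  let G := chartGrpd hG ρ h5
  have : IsFinite G.s := h1
  have : Flat G.s := h2
  have : LocallyOfFinitePresentation G.s := h3
  have hb : ∀ z : G.U, ∃ V : G.U.Opens, IsAffineOpen V ∧
      G.t.base '' (G.s.base ⁻¹' {z}) ⊆ (V : Set G.U) := fun z =>
    hfin _ ((G.s.finite_preimage_singleton z).image _) (U.hom z) (by
      rintro _ ⟨r, hr, rfl⟩
      change (ρ.t.left ≫ U.hom) r = U.hom z
      rw [(Over.w ρ.t).trans (Over.w ρ.s).symm]
      exact congrArg U.hom hr)
  obtain ⟨hcol⟩ := nonempty_isColimit_proj hb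
  obtain ⟨k, hk⟩ := Cofork.IsColimit.desc' hcol U.hom ((Over.w ρ.t).trans (Over.w ρ.s).symm)
  let Y : Over S := Over.mk k
  let p : U ⟶ Y := Over.homMk (proj hb) hk
  have hint : IsIntegralHom p.left := isIntegralHom_proj hb
  have hsur : Surjective p.left := ⟨surjective_proj hb⟩
  have hw : ρ.s.left ≫ p.left = ρ.t.left ≫ p.left := (t_proj hb).symm
  have hw' : ρ.s ≫ p = ρ.t ≫ p := Over.OverMorphism.ext hw
  have hx1 := repWith_mono (fun _ _ _ h => h.1.1.2) hx
  have hx2 := repWith_mono (fun _ _ _ h => h.2) hx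
  have hx3 := repWith_mono (fun _ _ _ h => h.1.1.1) hx
  obtain ⟨π, hπ⟩ := exists_functor_of_invariant h𝒳 hx1 hx2 hx3 ((yon S).map p) fun T r =>
    invariant_of_universal hG ρ h5 (by rw [← Functor.map_comp, ← Functor.map_comp, hw']) r
  refine ⟨⟨Y, p, R, ρ, h𝒳, h5, hint, hsur, h1, hw, fun Ω _ _ z z' hz => ?_, fun y => ?_, π, hπ,
    hx1, hx2, hx3, repWith_mono (fun _ _ _ h => h.1.2) hx⟩⟩
  · have : IsFinite (pullback.lift G.t G.s (t_proj hb) ≫ pullback.snd (proj hb) (proj hb)) := by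
      rw [pullback.lift_snd]; infer_instance
    have : IsSeparated (pullback.snd (proj hb) (proj hb)) := by
      have := isIntegralHom_proj hb
      infer_instance
    have : IsFinite (pullback.lift G.t G.s (t_proj hb)) :=
      IsFinite.of_comp _ (pullback.snd (proj hb) (proj hb))
    obtain ⟨r, hr⟩ := surjective_pair_proj hb
      (pullback.lift (f := proj hb) (g := proj hb) z' z hz.symm (IsLocalRing.closedPoint Ω))
    obtain ⟨c, hc, -⟩ := exists_point_lift (pullback.lift G.t G.s (t_proj hb))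
      (pullback.lift (f := proj hb) (g := proj hb) z' z hz.symm) r hr
    refine ⟨c, ?_, ?_⟩
    · have := hc =≫ pullback.snd _ _
      rwa [Category.assoc, pullback.lift_snd, pullback.lift_snd] at this
    · have := hc =≫ pullback.fst _ _
      rwa [Category.assoc, pullback.lift_fst, pullback.lift_fst] at this
  · obtain ⟨u, rfl⟩ := surjective_proj hb y
    obtain ⟨W, hu⟩ := exists_invAff hb u
    exact ⟨(chart W).opensRange, ⟨_, (proj_apply hb W ⟨u, hu⟩).symm⟩,
      fun B _ e _ he => isRelQuot_bc_proj G hb W e he⟩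

end Groth.Agent.H14KM
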