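import Groth.Agent.H14FinQuot.LocalCat

/-!
# The values of a functor along a chart can be computed on small affine opens
-/

set_option autoImplicit false
set_option backward.isDefEq.respectTransparency false
set_option backward.isDefEq.respectTransparency.types false

universe u

open CategoryTheory CategoryTheory.Limits AlgebraicGeometry Opposite
open AlgSp (yon J Sp IsAlgSpace)

noncomputable section

namespace Groth.Agent.H14KM

open H14LocalCat (secMor Good)

variable {S : Scheme.{u}} {M N : Sp S} {𝒲 : AlgSt.Cat S}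

/-- Values along a chart glue from values along small affine opens. -/
theorem existsUnique_good_of_small (π : 𝒲 ⥤ᵇ AlgSt.ofSp M) (φ : 𝒲 ⥤ᵇ AlgSt.ofSp N) {Y' : Over S}
    (g' : (yon S).obj Y' ⟶ M)
    (hloc : ∀ y : Y'.left, ∃ O : Y'.left.Opens, y ∈ O ∧ ∀ (B : Over S) (c : B ⟶ Y'),
      IsAffine B.left → IsOpenImmersion c.left → Set.range c.left ⊆ (O : Set Y'.left) →
        ∃! k, Good π φ ((yon S).map c ≫ g') k) :
    ∃! k, Good π φ g' k := by
  choose O hO hk using hloc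
  have hmem : ∀ y, ∃ A : Y'.left.Opens, IsAffineOpen A ∧ y ∈ A ∧ A ≤ O y := fun y => by
    obtain ⟨_, ⟨A, hA, rfl⟩, hyA, hle⟩ :=
      Y'.left.isBasis_affineOpens.exists_subset_of_mem_open (hO y) (O y).2
    exact ⟨A, hA, hyA, hle⟩
  choose A hA hyA hle using hmem
  let B : Y'.left → Over S := fun y => Over.mk ((A y).ι ≫ Y'.hom)
  let c : ∀ y, B y ⟶ Y' := fun y => Over.homMk (A y).ι rfl
  choose k hgood huniq using fun y => hk y (B y) (c y) (hA y)
    (inferInstanceAs (IsOpenImmersion (A y).ι))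
    (by rintro _ ⟨z, rfl⟩; exact hle y z.2)
  let R : Sieve Y' := Sieve.ofArrows B c
  have hR : R ∈ J S Y' := H13AlgSp.ofArrows_mem_J c
    (fun y => inferInstanceAs (Flat (A y).ι))
    (fun y => inferInstanceAs (LocallyOfFinitePresentation (A y).ι))
    (fun y => ⟨y, (Scheme.Opens.range_ι (A y)).ge (hyA y)⟩)
  have compat : ∀ (y₁ y₂ : Y'.left) (W : Over S) (a₁ : W ⟶ B y₁) (a₂ : W ⟶ B y₂),
      a₁ ≫ c y₁ = a₂ ≫ c y₂ → (yon S).map a₁ ≫ k y₁ = (yon S).map a₂ ≫ k y₂ := by
    intro y₁ y₂ W a₁ a₂ e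
    have hmemW : ∀ w : W.left, ((a₁ ≫ c y₁).left w) ∈ A y₁ ⊓ A y₂ := fun w => by
      refine ⟨(a₁.left w).2, ?_⟩
      rw [e]; exact (a₂.left w).2
    have hmem' : ∀ w : W.left, ∃ D : Y'.left.Opens, IsAffineOpen D ∧
        ((a₁ ≫ c y₁).left w) ∈ D ∧ D ≤ A y₁ ⊓ A y₂ := fun w => by
      obtain ⟨_, ⟨D, hD, rfl⟩, hwD, hle'⟩ :=
        Y'.left.isBasis_affineOpens.exists_subset_of_mem_open (hmemW w) (A y₁ ⊓ A y₂).2
      exact ⟨D, hD, hwD, hle'⟩
    choose D hD hwD hDle using hmem'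
    let m := (a₁ ≫ c y₁).left
    let V : W.left → Over S := fun w => Over.mk ((m ⁻¹ᵁ D w).ι ≫ W.hom)
    let d : ∀ w, V w ⟶ W := fun w => Over.homMk (m ⁻¹ᵁ D w).ι rfl
    refine H14Quot.yon_ext (H13AlgSp.ofArrows_mem_J d
      (fun w => inferInstanceAs (Flat (m ⁻¹ᵁ D w).ι))
      (fun w => inferInstanceAs (LocallyOfFinitePresentation (m ⁻¹ᵁ D w).ι))
      (fun w => ⟨w, (Scheme.Opens.range_ι _).ge (hwD w)⟩)) ?_
    rintro W' v ⟨V', b, _, ⟨w⟩, rfl⟩
    rw [Functor.map_comp, Category.assoc, Category.assoc]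
    congr 1
    let BD : Over S := Over.mk ((D w).ι ≫ Y'.hom)
    let cD : BD ⟶ Y' := Over.homMk (D w).ι rfl
    let j₁ : BD ⟶ B y₁ := Over.homMk (Y'.left.homOfLE ((hDle w).trans inf_le_left)) (by
      change _ ≫ (A y₁).ι ≫ Y'.hom = (D w).ι ≫ Y'.hom
      rw [← Category.assoc]; exact congrArg (· ≫ Y'.hom) (Scheme.homOfLE_ι _ _))
    let j₂ : BD ⟶ B y₂ := Over.homMk (Y'.left.homOfLE ((hDle w).trans inf_le_right)) (by
      change _ ≫ (A y₂).ι ≫ Y'.hom = (D w).ι ≫ Y'.hom
      rw [← Category.assoc]; exact congrArg (· ≫ Y'.hom) (Scheme.homOfLE_ι _ _))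
    have hj₁ : j₁ ≫ c y₁ = cD := Over.OverMorphism.ext (Scheme.homOfLE_ι _ ((hDle w).trans inf_le_left))
    have hj₂ : j₂ ≫ c y₂ = cD := Over.OverMorphism.ext (Scheme.homOfLE_ι _ ((hDle w).trans inf_le_right))
    obtain ⟨kD, -, hkD⟩ := hk y₁ BD cD (hD w) (inferInstanceAs (IsOpenImmersion (D w).ι)) (by
      rintro _ ⟨z, rfl⟩; exact hle y₁ ((hDle w).trans inf_le_left z.2))
    have good_restr : ∀ (y : Y'.left) (j : BD ⟶ B y), j ≫ c y = cD →
        Good π φ ((yon S).map cD ≫ g') ((yon S).map j ≫ k y) := fun y j hj ω W₁ t l h => by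
      rw [← Category.assoc, ← Functor.map_comp]
      refine hgood y ω W₁ t (l ≫ j) ?_
      rw [← h, ← hj]
      simp only [Functor.map_comp, Category.assoc]
    have e1 := (hkD _ (good_restr y₁ j₁ hj₁)).trans (hkD _ (good_restr y₂ j₂ hj₂)).symm
    let r : V w ⟶ BD := Over.homMk (m.resLE (D w) (m ⁻¹ᵁ D w) le_rfl) (by
      change _ ≫ (D w).ι ≫ Y'.hom = _ ≫ W.hom
      rw [← Category.assoc, Scheme.Hom.resLE_comp_ι, Category.assoc]
      exact congrArg (_ ≫ ·) (Over.w (a₁ ≫ c y₁)))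
    have hr : r ≫ cD = d w ≫ a₁ ≫ c y₁ := Over.OverMorphism.ext (Scheme.Hom.resLE_comp_ι _ _)
    have hmono : ∀ y, Mono (c y) := fun y => by
      have : Mono ((Over.forget S).map (c y)) := inferInstanceAs (Mono (A y).ι)
      exact (Over.forget S).mono_of_mono_map this
    have hr₁ : r ≫ j₁ = d w ≫ a₁ := by
      have := hmono y₁
      rw [← cancel_mono (c y₁), Category.assoc, hj₁, Category.assoc, hr]
    have hr₂ : r ≫ j₂ = d w ≫ a₂ := by
      have := hmono y₂
      rw [← cancel_mono (c y₂), Category.assoc, hj₂, Category.assoc, hr, e]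
    have := congrArg ((yon S).map r ≫ ·) e1
    rw [← Category.assoc, ← Category.assoc, ← Functor.map_comp, ← Functor.map_comp, hr₁, hr₂,
      Functor.map_comp, Functor.map_comp, Category.assoc, Category.assoc] at this
    exact this
  have hfac' : ∀ (W : Over S) (v : W ⟶ Y') (hv : R v), ∃ (y : Y'.left) (b : W ⟶ B y), b ≫ c y = v := by
    rintro W v ⟨V', b, _, ⟨y⟩, rfl⟩
    exact ⟨y, b, rfl⟩
  choose y b hb using hfac'
  obtain ⟨s, hs⟩ := H14Quot.yon_glue hR (fun W v hv => (yon S).map (b W v hv) ≫ k (y W v hv))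
    (fun W W' e v hv => by
      rw [← Category.assoc, ← Functor.map_comp]
      refine compat _ _ _ _ _ ?_
      simp only [Category.assoc, hb])
  refine ⟨s, fun ω W t l h => ?_, fun s' hs' => ?_⟩
  · refine H14Quot.yon_ext ((J S).pullback_stable l hR) fun W' e he => ?_
    rw [← Category.assoc, ← Category.assoc, ← Functor.map_comp, ← Functor.map_comp, hs _ he]
    refine hgood _ ω W' (e ≫ t) _ ?_
    rw [← Category.assoc, ← Functor.map_comp, hb, Functor.map_comp, Functor.map_comp, Category.assoc,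
      Category.assoc, h]
  · refine H14Quot.yon_ext hR fun W v hv => ?_
    rw [hs v hv]
    conv_lhs => rw [← hb W v hv, Functor.map_comp, Category.assoc]
    congr 1
    refine huniq (y W v hv) _ fun ω W₁ t l h => ?_
    rw [← Category.assoc, ← Functor.map_comp]
    refine hs' ω W₁ t _ ?_
    rw [← h, Functor.map_comp, Category.assoc]

end Groth.Agent.H14KM
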