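import Groth.Agent.H14FinQuot.Section
import Mathlib.AlgebraicGeometry.Morphisms.Integral
import Mathlib.AlgebraicGeometry.AlgClosed.Basic
import Mathlib.RingTheory.Smooth.NoetherianDescent
import Mathlib.RingTheory.IntegralClosure.IsIntegralClosure.Basic

/-!
# Geometric points along integral morphisms, and etale-local sections over integral schemes
-/

set_option autoImplicit false
set_option backward.isDefEq.respectTransparency false

universe u

open CategoryTheory CategoryTheory.Limits AlgebraicGeometry TopologicalSpace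

noncomputable section

namespace Groth.Agent.H14KM

variable {Ω : Type u} [Field Ω] [IsAlgClosed Ω]

local notation "sΩ" => Spec (CommRingCat.of Ω)

/-- Geometric points lift along integral morphisms through any point of the fibre. -/
lemma exists_point_lift {Z D : Scheme.{u}} (g : Z ⟶ D) [IsIntegralHom g] (d : sΩ ⟶ D) (z : Z)
    (hz : g z = d (IsLocalRing.closedPoint Ω)) :
    ∃ c : sΩ ⟶ Z, c ≫ g = d ∧ c (IsLocalRing.closedPoint Ω) = z := by
  obtain ⟨p, hp, -⟩ :=
    Scheme.Pullback.exists_preimage_pullback (f := g) (g := d) z (IsLocalRing.closedPoint Ω) hz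
  let f : pullback g d ⟶ sΩ := pullback.snd g d
  have : IsIntegralHom f := inferInstanceAs (IsIntegralHom (pullback.snd g d))
  have : IsAffine (pullback g d) := isAffine_of_isAffineHom f
  let B : CommRingCat.{u} := Γ(pullback g d, ⊤)
  let φ : CommRingCat.of Ω ⟶ B := (Scheme.ΓSpecIso (CommRingCat.of Ω)).inv ≫ f.appTop
  have hφ : φ.hom.IsIntegral := RingHom.IsIntegral.trans _ _
    (RingHom.isIntegral_of_surjective _
      (ConcreteCategory.bijective_of_isIso (Scheme.ΓSpecIso (CommRingCat.of Ω)).inv).2)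
    (f.isIntegral_app ⊤ (isAffineOpen_top _))
  let q : PrimeSpectrum B := (pullback g d).isoSpec.hom p
  let π : B ⟶ CommRingCat.of (B ⧸ q.asIdeal) := CommRingCat.ofHom (Ideal.Quotient.mk q.asIdeal)
  have : IsDomain (B ⧸ q.asIdeal) := Ideal.Quotient.isDomain _
  have hψ : Function.Bijective (φ ≫ π).hom :=
    IsAlgClosed.ringHom_bijective_of_isIntegral _ (RingHom.IsIntegral.trans _ _ hφ
      (RingHom.isIntegral_of_surjective _ Ideal.Quotient.mk_surjective))
  have : IsIso (φ ≫ π) := (ConcreteCategory.isIso_iff_bijective _).2 hψ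
  let ψ : B ⟶ CommRingCat.of Ω := π ≫ inv (φ ≫ π)
  let c : sΩ ⟶ pullback g d := Spec.map ψ ≫ (pullback g d).isoSpec.inv
  have hcf : c ≫ f = 𝟙 _ := by
    have h1 : (pullback g d).isoSpec.inv ≫ f = Spec.map φ := by
      rw [← cancel_mono (sΩ).isoSpec.hom, Category.assoc, ← Scheme.isoSpec_hom_naturality f,
        Iso.inv_hom_id_assoc]
      simp only [φ, Scheme.isoSpec_hom, Spec.map_comp, Category.assoc, ← SpecMap_ΓSpecIso_hom]
      rw [← Spec.map_comp, Iso.hom_inv_id, Spec.map_id, Category.comp_id]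
    rw [Category.assoc, h1, ← Spec.map_comp, ← Category.assoc φ, IsIso.hom_inv_id, Spec.map_id]
  have hcp : c (IsLocalRing.closedPoint Ω) = p := by
    have h2 : Spec.map ψ (IsLocalRing.closedPoint Ω) = q := by
      refine PrimeSpectrum.ext ?_
      change (IsLocalRing.maximalIdeal Ω).comap ψ.hom = q.asIdeal
      rw [IsLocalRing.maximalIdeal_eq_bot, ← RingHom.ker_eq_comap_bot]
      ext b
      have hinj := (ConcreteCategory.bijective_of_isIso (inv (φ ≫ π))).1
      change inv (φ ≫ π) (π b) = 0 ↔ _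
      rw [map_eq_zero_iff _ hinj]
      exact Ideal.Quotient.eq_zero_iff_mem
    change (Spec.map ψ ≫ (pullback g d).isoSpec.inv) (IsLocalRing.closedPoint Ω) = p
    rw [Scheme.Hom.comp_apply, h2, ← Scheme.Hom.comp_apply, Iso.hom_inv_id]
    rfl
  refine ⟨c ≫ pullback.fst g d, ?_, ?_⟩
  · rw [Category.assoc, pullback.condition, ← Category.assoc]
    exact (congrArg (· ≫ d) hcf).trans (Category.id_comp _)
  · rw [Scheme.Hom.comp_apply, hcp, hp]

/-- Etale-locally on the base, an etale map from an affine scheme to an integral scheme has a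
section through prescribed lifts of the geometric points of a finite fibre. -/
theorem exists_nbhd_section_affine {X Y W : Scheme.{u}} [IsAffine X] [IsAffine Y] [IsAffine W]
    (p : X ⟶ Y) [IsIntegralHom p] (r : W ⟶ X) [Etale r] (yb : sΩ ⟶ Y)
    [Finite {x : sΩ ⟶ X // x ≫ p = yb}]
    (w : {x : sΩ ⟶ X // x ≫ p = yb} → (sΩ ⟶ W)) (hw : ∀ x, w x ≫ r = x.1) :
    ∃ (E : Scheme.{u}) (_ : IsAffine E) (e : E ⟶ Y) (_ : Etale e) (de : sΩ ⟶ E) (hde : de ≫ e = yb)
      (s : pullback p e ⟶ W), s ≫ r = pullback.fst p e ∧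
      ∀ x : {x : sΩ ⟶ X // x ≫ p = yb},
        pullback.lift x.1 de (x.2.trans hde.symm) ≫ s = w x := by
  classical
  let F : Type u := {x : sΩ ⟶ X // x ≫ p = yb}
  have := Fintype.ofFinite F
  let C : Type u := Γ(Y, ⊤)
  let A : Type u := Γ(X, ⊤)
  let B : Type u := Γ(W, ⊤)
  letI : Algebra C A := p.appTop.hom.toAlgebra
  letI : Algebra A B := r.appTop.hom.toAlgebra
  have hint : Algebra.IsIntegral C A := ⟨p.isIntegral_app ⊤ (isAffineOpen_top Y)⟩
  have : Algebra.Etale A B :=
    RingHom.etale_algebraMap.1 ((HasRingHomProperty.iff_of_isAffine (P := @Etale)).1 ‹Etale r› :)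
  obtain ⟨A₀, B₀, _, _, hA₀, hB₀, ⟨θ⟩⟩ := Algebra.Etale.exists_subalgebra_fg (R := C) (A := A) (B := B)
  -- elements separating the points of the fibre
  let ev : F → (A →+* Ω) := fun x => (x.1.appTop ≫ (Scheme.ΓSpecIso (CommRingCat.of Ω)).hom).hom
  have hev : Function.Injective ev := fun x x' e => by
    refine Subtype.ext (ext_of_isAffine ?_)
    rw [← cancel_mono (Scheme.ΓSpecIso (CommRingCat.of Ω)).hom]
    exact CommRingCat.hom_ext e
  have hsep : ∀ q : F × F, ∃ a : A, q.1 ≠ q.2 → ev q.1 a ≠ ev q.2 a := fun q => by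
    by_cases h : q.1 = q.2
    · exact ⟨0, fun h' => absurd h h'⟩
    · by_contra! hc
      exact h (hev (RingHom.ext fun a => (hc a).2))
  choose sep hsep using hsep
  let A₁ : Subalgebra C A := A₀ ⊔ Algebra.adjoin C (Set.range sep)
  have hA₁ : A₁.FG := hA₀.sup ⟨(Set.finite_range sep).toFinset, by simp⟩
  let i₀ : A₀ →+* A₁ := (Subalgebra.inclusion (le_sup_left : A₀ ≤ A₁)).toRingHom
  letI : Algebra A₀ A₁ := i₀.toAlgebra
  have : IsScalarTower A₀ A₁ A := IsScalarTower.of_algebraMap_eq fun _ => rfl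
  have : Algebra.IsIntegral C A₁ := Algebra.IsIntegral.of_injective A₁.val Subtype.val_injective
  have : Algebra.FiniteType C A₁ := (Subalgebra.fg_iff_finiteType A₁).1 hA₁
  have : Module.Finite C A₁ := Algebra.IsIntegral.finite
  let B₁ := TensorProduct A₀ A₁ B₀
  have : Algebra.Etale A₁ B₁ := Algebra.Etale.baseChange A₀ B₀ A₁
  let θ₁ : TensorProduct A₁ A B₁ ≃ₐ[A] B :=
    (Algebra.TensorProduct.cancelBaseChange A₀ A₁ A A B₀).trans θ.symm
  let ιA : CommRingCat.of A₁ ⟶ Γ(X, ⊤) := CommRingCat.ofHom A₁.val.toRingHom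
  let σ₁ : CommRingCat.of A₁ ⟶ CommRingCat.of B₁ := CommRingCat.ofHom (algebraMap A₁ B₁)
  let ιB : CommRingCat.of B₁ ⟶ Γ(W, ⊤) :=
    CommRingCat.ofHom (θ₁.toRingHom.comp Algebra.TensorProduct.includeRight.toRingHom)
  have po : IsPushout ιA σ₁ r.appTop ιB := by
    refine (CommRingCat.isPushout_tensorProduct A₁ A B₁).of_iso (Iso.refl _) (Iso.refl _) (Iso.refl _)
      (θ₁.toRingEquiv.toCommRingCatIso) ?_ ?_ ?_ ?_
    · rfl
    · rfl
    · ext a
      exact θ₁.commutes a
    · rfl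
  let X₁ := Spec (CommRingCat.of A₁)
  let W₁ := Spec (CommRingCat.of B₁)
  let q : X ⟶ X₁ := X.isoSpec.hom ≫ Spec.map ιA
  let p₁ : X₁ ⟶ Y := Spec.map (CommRingCat.ofHom (algebraMap C A₁)) ≫ Y.isoSpec.inv
  let r₁ : W₁ ⟶ X₁ := Spec.map σ₁
  let qW : W ⟶ W₁ := W.isoSpec.hom ≫ Spec.map ιB
  have hqp : q ≫ p₁ = p := by
    have h1 : CommRingCat.ofHom (algebraMap C A₁) ≫ ιA = p.appTop := CommRingCat.hom_ext (RingHom.ext fun _ => rfl)
    simp only [q, p₁, Category.assoc, ← Spec.map_comp_assoc, h1]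
    rw [Scheme.isoSpec_inv_naturality, Iso.hom_inv_id_assoc]
  have sqW : IsPullback r qW q r₁ := by
    refine (isPullback_SpecMap_of_isPushout _ _ _ _ po).of_iso W.isoSpec.symm X.isoSpec.symm (Iso.refl _)
      (Iso.refl _) ?_ ?_ ?_ ?_
    · exact Scheme.isoSpec_inv_naturality r
    · simp [qW]
    · simp [q]
    · simp [r₁]
  have : Etale r₁ := HasRingHomProperty.Spec_iff.2 (RingHom.etale_algebraMap.2 ‹_›)
  have : IsFinite p₁ := by
    have : IsFinite (Spec.map (CommRingCat.ofHom (algebraMap C A₁))) :=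
      (IsFinite.SpecMap_iff _).2 (RingHom.finite_algebraMap.2 ‹_›)
    exact inferInstanceAs (IsFinite (_ ≫ _))
  have : IsIntegralHom q := by
    have : IsIntegralHom (Spec.map ιA) := IsIntegralHom.SpecMap_iff.2 fun a =>
      (Algebra.IsIntegral.isIntegral (R := C) (a : A)).tower_top (A := A₁)
    exact inferInstanceAs (IsIntegralHom (_ ≫ _))
  have hqsurj : Surjective q := by
    have : Algebra.IsIntegral A₁ A := ⟨fun a => (Algebra.IsIntegral.isIntegral (R := C) (a : A)).tower_top⟩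
    have : FaithfulSMul A₁ A := (faithfulSMul_iff_algebraMap_injective _ _).2 Subtype.val_injective
    have : Surjective (Spec.map ιA) := ⟨Algebra.IsIntegral.comap_surjective A₁ A⟩
    exact inferInstanceAs (Surjective (_ ≫ _))
  -- the fibres correspond
  let φ : F → {x₁ : sΩ ⟶ X₁ // x₁ ≫ p₁ = yb} := fun x => ⟨x.1 ≫ q, by rw [Category.assoc, hqp, x.2]⟩
  have hφi : Function.Injective φ := fun x x' e => by
    by_contra hne
    refine hsep (x, x') hne ?_
    have e' : x.1 ≫ q = x'.1 ≫ q := congrArg Subtype.val e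
    have e'' := congrArg (fun k => k.appTop) e'
    simp only [q, Scheme.Hom.comp_appTop] at e''
    have hmem : sep (x, x') ∈ A₁ := (le_sup_right : _ ≤ A₁) (Algebra.subset_adjoin ⟨_, rfl⟩)
    have h3 : (X.isoSpec.hom ≫ Spec.map ιA).appTop =
        (Scheme.ΓSpecIso (CommRingCat.of A₁)).hom ≫ ιA := by
      rw [Scheme.Hom.comp_appTop, Scheme.isoSpec_hom, Scheme.toSpecΓ_appTop]
      exact Scheme.ΓSpecIso_naturality ιA
    rw [← Scheme.Hom.comp_appTop, h3, Category.assoc, Category.assoc, cancel_epi] at e''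
    exact congr((Scheme.ΓSpecIso (CommRingCat.of Ω)).hom ($e'' ⟨_, hmem⟩))
  have hφs : Function.Surjective φ := fun x₁ => by
    obtain ⟨z, hz⟩ := hqsurj.surj (x₁.1 (IsLocalRing.closedPoint Ω))
    obtain ⟨x, hx, -⟩ := exists_point_lift q x₁.1 z hz
    exact ⟨⟨x, by rw [← hqp, ← Category.assoc, hx, x₁.2]⟩, Subtype.ext hx⟩
  let e₁ : F ≃ {x₁ : sΩ ⟶ X₁ // x₁ ≫ p₁ = yb} := Equiv.ofBijective φ ⟨hφi, hφs⟩
  have : Finite {x₁ : sΩ ⟶ X₁ // x₁ ≫ p₁ = yb} := Finite.of_equiv _ e₁
  obtain ⟨E, hE, e, he, de, hde, s₁, hs₁, hs₁w⟩ := H14FinQuot.exists_nbhd_section p₁ r₁ yb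
    (fun x₁ => w (e₁.symm x₁) ≫ qW) (fun x₁ => by
      rw [Category.assoc, ← sqW.w, ← Category.assoc, hw]
      exact congrArg Subtype.val (e₁.apply_symm_apply x₁))
  let m : pullback p e ⟶ pullback p₁ e :=
    pullback.lift (pullback.fst p e ≫ q) (pullback.snd p e)
      (by rw [Category.assoc, hqp, pullback.condition])
  refine ⟨E, hE, e, he, de, hde, sqW.lift (pullback.fst p e) (m ≫ s₁)
    (by rw [Category.assoc, hs₁, pullback.lift_fst]), sqW.lift_fst _ _ _, fun x => ?_⟩
  apply sqW.hom_ext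
  · rw [Category.assoc, sqW.lift_fst, pullback.lift_fst, hw]
  · rw [Category.assoc, sqW.lift_snd]
    have := hs₁w (e₁ x)
    rw [e₁.symm_apply_apply] at this
    rw [← this, ← Category.assoc]
    congr 1
    apply pullback.hom_ext
    · simp only [m, Category.assoc, pullback.lift_fst, pullback.lift_fst_assoc]
      rfl
    · simp only [m, Category.assoc, pullback.lift_snd]

/-- Etale-locally on the base, an etale map to an integral scheme has a section through prescribed
lifts of the geometric points of a finite fibre. -/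
theorem exists_nbhd_section {X Y W : Scheme.{u}} [IsAffine X] [IsAffine Y]
    (p : X ⟶ Y) [IsIntegralHom p] (r : W ⟶ X) [Etale r] (yb : sΩ ⟶ Y)
    [Finite {x : sΩ ⟶ X // x ≫ p = yb}]
    (w : {x : sΩ ⟶ X // x ≫ p = yb} → (sΩ ⟶ W)) (hw : ∀ x, w x ≫ r = x.1) :
    ∃ (E : Scheme.{u}) (_ : IsAffine E) (e : E ⟶ Y) (_ : Etale e) (de : sΩ ⟶ E) (hde : de ≫ e = yb)
      (s : pullback p e ⟶ W), s ≫ r = pullback.fst p e ∧
      ∀ x : {x : sΩ ⟶ X // x ≫ p = yb},
        pullback.lift x.1 de (x.2.trans hde.symm) ≫ s = w x := by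
  classical
  let F : Type u := {x : sΩ ⟶ X // x ≫ p = yb}
  have : ∀ x : F, ∃ V : W.Opens, IsAffineOpen V ∧ Set.range (w x) ⊆ Set.range V.ι := fun x => by
    obtain ⟨_, ⟨V, hV, rfl⟩, hx, -⟩ := W.isBasis_affineOpens.exists_subset_of_mem_open
      (Set.mem_univ (w x (IsLocalRing.closedPoint Ω))) isOpen_univ
    refine ⟨V, hV, ?_⟩
    rintro _ ⟨t, rfl⟩
    rw [Subsingleton.elim t (IsLocalRing.closedPoint Ω)]
    exact (Scheme.Opens.range_ι V).ge hx
  choose V hV hwV using this
  let Z : F → Scheme.{u} := fun x => (V x).toScheme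
  have : ∀ x, IsAffine (Z x) := hV
  let m : (∐ Z) ⟶ W := Sigma.desc fun x => (V x).ι
  have : Etale m := IsZariskiLocalAtSource.sigmaDesc fun x => inferInstanceAs (Etale (V x).ι)
  obtain ⟨E, hE, e, he, de, hde, s, hs, hsw⟩ := exists_nbhd_section_affine p (m ≫ r) yb
    (fun x => IsOpenImmersion.lift (V x).ι (w x) (hwV x) ≫ Sigma.ι Z x) (fun x => by
      simp only [Category.assoc, m, Sigma.ι_desc_assoc]
      rw [← Category.assoc, IsOpenImmersion.lift_fac, hw])
  refine ⟨E, hE, e, he, de, hde, s ≫ m, by rw [Category.assoc, hs], fun x => ?_⟩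
  rw [← Category.assoc, hsw, Category.assoc, Sigma.ι_desc, IsOpenImmersion.lift_fac]

end Groth.Agent.H14KM
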