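import Groth.Agent.H14KM.Points
import Groth.Agent.H14FinQuot.Factor
import Groth.Agent.H13AlgSp.FlatEqualizer

/-!
# Invariant maps to algebraic spaces factor through the invariants of a finite relation
-/

set_option autoImplicit false
set_option backward.isDefEq.respectTransparency false

universe u

open CategoryTheory CategoryTheory.Limits AlgebraicGeometry TopologicalSpace
open AlgSp (yon J Sp Representable RepWith IsAlgSpace)

noncomputable section

namespace Groth.Agent.H14KM

/-- An integral map of affine schemes with the properties of the map to the spectrum of the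
invariants of a finite relation `(σ, τ)`. -/
structure IsRelQuot {X Y R : Scheme.{u}} (p : X ⟶ Y) (σ τ : R ⟶ X) : Prop where
  integral : IsIntegralHom p
  finite : IsFinite σ
  w : σ ≫ p = τ ≫ p
  inj : Function.Injective p.appTop
  range : ∀ a, σ.appTop a = τ.appTop a → a ∈ Set.range p.appTop
  trans : ∀ (Ω : Type u) [Field Ω] [IsAlgClosed Ω] (x x' : Spec (CommRingCat.of Ω) ⟶ X),
    x ≫ p = x' ≫ p → ∃ r : Spec (CommRingCat.of Ω) ⟶ R, r ≫ σ = x ∧ r ≫ τ = x'

/-- A monomorphism locally of finite type through which an integral dominant map factors. -/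
lemma isIso_of_factor {X Y E : Scheme.{u}} [IsAffine X] [IsAffine Y] {p : X ⟶ Y} [IsIntegralHom p]
    (hinj : Function.Injective p.appTop) (i : E ⟶ Y) [Mono i] [LocallyOfFiniteType i] (l : X ⟶ E)
    (hl : l ≫ i = p) : IsIso i := by
  have hdom : IsDominant p := isDominant_of_of_appTop_injective (f := p) hinj
  have hsurj : Surjective p := ⟨fun y => by
    have h1 : IsClosed (Set.range p) := p.isClosedMap.isClosed_range
    have h2 := h1.closure_eq ▸ hdom.1.closure_range
    exact (h2 ▸ Set.mem_univ y : y ∈ Set.range p)⟩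
  have hsi : Surjective i := ⟨fun y => by
    obtain ⟨x, rfl⟩ := p.surjective y
    exact ⟨l x, by rw [← Scheme.Hom.comp_apply, hl]⟩⟩
  have : Surjective l := ⟨fun e => by
    obtain ⟨x, hx⟩ := p.surjective (i e)
    exact ⟨x, i.injective (by rw [← Scheme.Hom.comp_apply, hl]; exact hx)⟩⟩
  have : UniversallyClosed (l ≫ i) := hl ▸ inferInstance
  have : UniversallyClosed i := UniversallyClosed.of_comp_surjective l i
  have : IsSeparated i := inferInstance
  have : IsProper i := ⟨⟩
  have : IsClosedImmersion i := (IsClosedImmersion.iff_isProper_and_mono i).2 ⟨‹_›, ‹_›⟩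
  refine IsClosedImmersion.isIso_of_injective_of_isAffine (f := i) fun a b e => hinj ?_
  rw [← hl, Scheme.Hom.comp_appTop, CommRingCat.comp_apply, CommRingCat.comp_apply, e]

variable {S : Scheme.{u}}

/-- Maps to an algebraic space are detected after an integral dominant map. -/
lemma eq_of_comp_eq {N : Sp S} (hN : IsAlgSpace N) {X Y : Over S} [IsAffine X.left] [IsAffine Y.left]
    (p : X ⟶ Y) [IsIntegralHom p.left] (hinj : Function.Injective p.left.appTop)
    {k k' : (yon S).obj Y ⟶ N} (h : (yon S).map p ≫ k = (yon S).map p ≫ k') : k = k' := by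
  let ξ := prod.lift k k'
  obtain ⟨E, i, fst, sq⟩ := hN.diag ξ
  have hm : Mono i.left := (H12AlgSp.repWith_mono_diag hN).property ξ fst i sq
  have hl : LocallyOfFiniteType i.left := (H12AlgSp.repWith_lft_diag hN).property ξ fst i sq
  obtain ⟨l', -, hl'⟩ := sq.exists_lift ((yon S).map p ≫ k) ((yon S).map p) (by
    apply Limits.prod.hom_ext
    · simp [ξ]
    · simpa [ξ] using h)
  obtain ⟨l, rfl⟩ := (yon S).map_surjective l'
  have hlp : l ≫ i = p := (yon S).map_injective (((yon S).map_comp l i).trans hl')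
  have : IsIso i.left :=
    isIso_of_factor hinj i.left l.left (congrArg (fun t => t.left) hlp)
  have : IsIso ((Over.forget S).map i) := ‹IsIso i.left›
  have : IsIso i := isIso_of_reflects_iso i (Over.forget S)
  have e1 : fst = (yon S).map i ≫ k := by simpa [ξ] using sq.w =≫ prod.fst
  have e2 : fst = (yon S).map i ≫ k' := by simpa [ξ] using sq.w =≫ prod.snd
  exact (cancel_epi ((yon S).map i)).1 (e1.symm.trans e2)

/-- The same for maps to schemes. -/
lemma eq_of_comp_eq_hom {X Y Z : Over S} [IsAffine X.left] [IsAffine Y.left] (p : X ⟶ Y)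
    [IsIntegralHom p.left] (hinj : Function.Injective p.left.appTop) {k k' : Y ⟶ Z}
    (h : p ≫ k = p ≫ k') : k = k' :=
  (yon S).map_injective (eq_of_comp_eq (IsAlgSpace.yon_obj Z) p hinj
    (by rw [← Functor.map_comp, ← Functor.map_comp, h]))

/-- The points of a finite scheme over an algebraically closed field form a finite set. -/
lemma finite_points {Z D : Scheme.{u}} (g : Z ⟶ D) [IsFinite g] {Ω : Type u} [Field Ω]
    [IsAlgClosed Ω] (d : Spec (CommRingCat.of Ω) ⟶ D) :
    Finite {c : Spec (CommRingCat.of Ω) ⟶ Z // c ≫ g = d} := by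
  let f : pullback g d ⟶ Spec (CommRingCat.of Ω) := pullback.snd g d
  have : Finite ↥(pullback g d) := by
    have h := f.finite_preimage_singleton (IsLocalRing.closedPoint Ω)
    rw [show f ⁻¹' {IsLocalRing.closedPoint Ω} = Set.univ from
      Set.eq_univ_of_forall fun z => Subsingleton.elim _ _] at h
    exact Set.finite_univ_iff.1 h
  refine Finite.of_injective (fun c : {c : Spec (CommRingCat.of Ω) ⟶ Z // c ≫ g = d} =>
    pullback.lift c.1 (𝟙 _) (c.2.trans (Category.id_comp d).symm) (IsLocalRing.closedPoint Ω))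
    fun c c' e => Subtype.ext ?_
  have := ext_of_apply_closedPoint_eq (f := pullback.lift c.1 (𝟙 _) (c.2.trans (Category.id_comp d).symm))
    (g := pullback.lift c'.1 (𝟙 _) (c'.2.trans (Category.id_comp d).symm)) f
    (pullback.lift_snd _ _ _) (pullback.lift_snd _ _ _) e
  simpa using this =≫ pullback.fst g d

/-- Flat affine base change. -/
lemma IsRelQuot.baseChange {X Y E R : Scheme.{u}} [IsAffine X] [IsAffine Y] [IsAffine E] [IsAffine R]
    {p : X ⟶ Y} {σ τ : R ⟶ X} (h : IsRelQuot p σ τ) (e : E ⟶ Y) [Flat e] :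
    IsRelQuot (pullback.snd p e)
      (pullback.map (σ ≫ p) e p e σ (𝟙 E) (𝟙 Y) (by simp) (by simp))
      (pullback.map (σ ≫ p) e p e τ (𝟙 E) (𝟙 Y) (by simp [h.w]) (by simp)) := by
  have := h.integral
  have := h.finite
  let σ' := pullback.map (σ ≫ p) e p e σ (𝟙 E) (𝟙 Y) (by simp) (by simp)
  let τ' := pullback.map (σ ≫ p) e p e τ (𝟙 E) (𝟙 Y) (by simp [h.w]) (by simp)
  have hσ₂ : σ' ≫ pullback.snd p e = pullback.snd (σ ≫ p) e := by simp [σ', pullback.map]
  have hτ₂ : τ' ≫ pullback.snd p e = pullback.snd (σ ≫ p) e := by simp [τ', pullback.map]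
  have hσ₁ : σ' ≫ pullback.fst p e = pullback.fst (σ ≫ p) e ≫ σ := by simp [σ', pullback.map]
  have hτ₁ : τ' ≫ pullback.fst p e = pullback.fst (σ ≫ p) e ≫ τ := by simp [τ', pullback.map]
  have sqσ : IsPullback σ' (pullback.fst (σ ≫ p) e) (pullback.fst p e) σ :=
    IsPullback.of_right (h₁₂ := pullback.snd p e) (h₂₂ := p) (v₁₃ := e)
      (by rw [hσ₂]; exact (IsPullback.of_hasPullback (σ ≫ p) e).flip)
      hσ₁ (IsPullback.of_hasPullback p e).flip
  have hflat : e.appTop.hom.Flat := by
    rw [Scheme.Hom.appTop, Scheme.Hom.app_eq_appLE]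
    exact Scheme.Hom.flat_appLE e (isAffineOpen_top Y) (isAffineOpen_top E) _
  have key := H13AlgSp.injective_and_range_of_flat hflat
    (sqA := (IsPushout.of_vert_isIso ⟨by simp⟩ : IsPushout e.appTop (𝟙 _) (𝟙 _) e.appTop))
    (isPushout_appTop_of_isPullback (IsPullback.of_hasPullback p e)).flip
    (isPushout_appTop_of_isPullback (IsPullback.of_hasPullback (σ ≫ p) e)).flip
    (ι := p.appTop) (Category.id_comp _) (f := σ.appTop) (g := τ.appTop)
    (Scheme.Hom.comp_appTop σ p).symm (by rw [h.w, Scheme.Hom.comp_appTop]) h.inj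
    (fun b => ⟨h.range b, by
      rintro ⟨y, rfl⟩
      rw [← CommRingCat.comp_apply, ← CommRingCat.comp_apply, ← Scheme.Hom.comp_appTop,
        ← Scheme.Hom.comp_appTop, h.w]⟩)
    (ι' := (pullback.snd p e).appTop) (Category.id_comp _) (by
      rw [← Scheme.Hom.comp_appTop, ← Scheme.Hom.comp_appTop, pullback.condition])
    (f' := σ'.appTop) (g' := τ'.appTop)
    (by rw [← Scheme.Hom.comp_appTop, hσ₂]) (by rw [← Scheme.Hom.comp_appTop, hσ₁, Scheme.Hom.comp_appTop])
    (by rw [← Scheme.Hom.comp_appTop, hτ₂]) (by rw [← Scheme.Hom.comp_appTop, hτ₁, Scheme.Hom.comp_appTop])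
  refine ⟨inferInstance, MorphismProperty.of_isPullback sqσ.flip h.finite,
    hσ₂.trans hτ₂.symm, key.1, key.2, fun Ω _ _ x x' hx => ?_⟩
  obtain ⟨r, hr, hr'⟩ := h.trans Ω (x ≫ pullback.fst p e) (x' ≫ pullback.fst p e) (by
    rw [Category.assoc, Category.assoc, pullback.condition, ← Category.assoc, hx, Category.assoc])
  refine ⟨pullback.lift r (x ≫ pullback.snd p e) (by
    rw [← Category.assoc r, hr, Category.assoc, Category.assoc, pullback.condition]),
    pullback.hom_ext ?_ ?_, pullback.hom_ext ?_ ?_⟩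
  · rw [Category.assoc]
    exact (congrArg (_ ≫ ·) hσ₁).trans (by rw [pullback.lift_fst_assoc, hr])
  · rw [Category.assoc]
    exact (congrArg (_ ≫ ·) hσ₂).trans (by rw [pullback.lift_snd])
  · rw [Category.assoc]
    exact (congrArg (_ ≫ ·) hτ₁).trans (by rw [pullback.lift_fst_assoc, hr'])
  · rw [Category.assoc]
    exact (congrArg (_ ≫ ·) hτ₂).trans (by rw [pullback.lift_snd, hx])

/-- Invariant maps to an affine scheme factor. -/
lemma IsRelQuot.exists_desc_affine {X Y V R : Scheme.{u}} [IsAffine Y] [IsAffine V] {p : X ⟶ Y}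
    {σ τ : R ⟶ X} (h : IsRelQuot p σ τ) (g : X ⟶ V) (hg : σ ≫ g = τ ≫ g) :
    ∃ k : Y ⟶ V, p ≫ k = g := by
  choose φ hφ using fun a => h.range (g.appTop a) (by
    rw [← CommRingCat.comp_apply, ← Scheme.Hom.comp_appTop, hg, Scheme.Hom.comp_appTop,
      CommRingCat.comp_apply])
  let φ' : Γ(V, ⊤) →+* Γ(Y, ⊤) :=
    { toFun := φ
      map_one' := h.inj (by rw [hφ, map_one, map_one])
      map_zero' := h.inj (by rw [hφ, map_zero, map_zero])
      map_mul' := fun a b => h.inj (by rw [hφ, map_mul, map_mul, hφ, hφ])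
      map_add' := fun a b => h.inj (by rw [hφ, map_add, map_add, hφ, hφ]) }
  refine ⟨Y.toSpecΓ ≫ Spec.map (CommRingCat.ofHom φ') ≫ CategoryTheory.inv V.toSpecΓ, ?_⟩
  rw [← Category.assoc, ← Category.assoc, IsIso.comp_inv_eq, Scheme.toSpecΓ_naturality,
    Scheme.toSpecΓ_naturality, Category.assoc, ← Spec.map_comp]
  exact congrArg (X.toSpecΓ ≫ ·) (congrArg Spec.map (CommRingCat.hom_ext (RingHom.ext hφ)))

variable {X Y R : Over S} [IsAffine X.left] [IsAffine Y.left] [IsAffine R.left] (p : X ⟶ Y)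
  (s t : R ⟶ X) (hq : IsRelQuot p.left s.left t.left)

include hq in
/-- Etale locally on the quotient, an invariant map lifts to an affine chart. -/
lemma exists_local_desc {N : Sp S} (hN : IsAlgSpace N) (f : (yon S).obj X ⟶ N)
    (hf : (yon S).map s ≫ f = (yon S).map t ≫ f) (y : Y.left) :
    ∃ (E : Over S) (e : E ⟶ Y) (_ : IsAffine E.left) (_ : Etale e.left) (k : (yon S).obj E ⟶ N),
      y ∈ Set.range e.left ∧ ∀ (T : Over S) (a : T ⟶ X) (b : T ⟶ E), a ≫ p = b ≫ e →
        (yon S).map a ≫ f = (yon S).map b ≫ k := by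
  let Ω := AlgebraicClosure (Y.left.residueField y)
  let sΩ := Spec (CommRingCat.of Ω)
  let pt := IsLocalRing.closedPoint Ω
  let yb : sΩ ⟶ Y.left := Spec.map (CommRingCat.ofHom (algebraMap (Y.left.residueField y) Ω)) ≫
    Y.left.fromSpecResidueField y
  have hyb : yb pt = y := by
    rw [Scheme.Hom.comp_apply]
    exact Scheme.fromSpecResidueField_apply _ _
  have : IsIntegralHom p.left := hq.integral
  have : IsFinite s.left := hq.finite
  have hsurj : Surjective p.left := by
    have hdom : IsDominant p.left := isDominant_of_of_appTop_injective (f := p.left) hq.inj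
    refine ⟨fun z => ?_⟩
    have h1 : IsClosed (Set.range p.left) := p.left.isClosedMap.isClosed_range
    have h2 := h1.closure_eq ▸ hdom.1.closure_range
    exact (h2 ▸ Set.mem_univ z : z ∈ Set.range p.left)
  obtain ⟨z₀, hz₀⟩ := p.left.surjective y
  obtain ⟨x₀, hx₀, -⟩ := exists_point_lift p.left yb z₀ (hz₀.trans hyb.symm)
  have hfinR : Finite {r : sΩ ⟶ R.left // r ≫ s.left = x₀} := finite_points s.left x₀
  have hfinF : Finite {x : sΩ ⟶ X.left // x ≫ p.left = yb} :=
    Finite.of_surjective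
      (fun r : {r : sΩ ⟶ R.left // r ≫ s.left = x₀} =>
        ⟨r.1 ≫ t.left, by rw [Category.assoc, ← hq.w, ← Category.assoc, r.2, hx₀]⟩)
      fun x => by
        obtain ⟨r, h1, h2⟩ := hq.trans Ω x₀ x.1 (hx₀.trans x.2.symm)
        exact ⟨⟨r, h1⟩, Subtype.ext h2⟩
  -- a chart through the image
  obtain ⟨U, d₀, hd₀, hd₀s⟩ := hN.atlas
  obtain ⟨W₀, a₀, b₀, sq₀⟩ := H12AlgSp.Hilb.exists_square hd₀.1 f
  have ha₀ : Etale a₀.left := hd₀.property f _ a₀ sq₀
  have ha₀s : Surjective a₀.left := hd₀s.property f _ a₀ sq₀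
  obtain ⟨w₀, hw₀⟩ := a₀.left.surjective (x₀ pt)
  obtain ⟨_, ⟨V₀, hV₀, rfl⟩, hv₀, -⟩ := U.left.isBasis_affineOpens.exists_subset_of_mem_open
    (Set.mem_univ (b₀.left w₀)) isOpen_univ
  let V : Over S := Over.mk (Scheme.Opens.ι V₀ ≫ U.hom)
  let ιV : V ⟶ U := Over.homMk (Scheme.Opens.ι V₀) rfl
  have : IsAffine V.left := hV₀
  let d := (yon S).map ιV ≫ d₀
  have : LocallyQuasiFinite a₀.left := H12AlgSp.lqf_of_etale a₀.left
  obtain ⟨c₀, hc₀, hc₀w⟩ := H14FinQuot.exists_point_lift a₀.left x₀ w₀ hw₀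
  have hr₀ : Set.range (c₀ ≫ b₀.left) ⊆ Set.range (Scheme.Opens.ι V₀) := by
    rintro _ ⟨t, rfl⟩
    rw [Subsingleton.elim t pt, Scheme.Hom.comp_apply, hc₀w, Scheme.Opens.range_ι]
    exact hv₀
  let v : sΩ ⟶ V.left := IsOpenImmersion.lift (Scheme.Opens.ι V₀) (c₀ ≫ b₀.left) hr₀
  let T₀ : Over S := Over.mk (x₀ ≫ X.hom)
  let x₀' : T₀ ⟶ X := Over.homMk x₀ rfl
  let c₀' : T₀ ⟶ W₀ := Over.homMk c₀ (by
    rw [← Over.w a₀, ← Category.assoc, hc₀]; rfl)
  let v' : T₀ ⟶ V := Over.homMk v (by
    change v ≫ Scheme.Opens.ι V₀ ≫ U.hom = _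
    rw [← Category.assoc, IsOpenImmersion.lift_fac, Category.assoc, Over.w b₀]
    exact Over.w c₀')
  have hv' : (yon S).map v' ≫ d = (yon S).map x₀' ≫ f := by
    have e1 : v' ≫ ιV = c₀' ≫ b₀ := Over.OverMorphism.ext (IsOpenImmersion.lift_fac _ _ _)
    have e2 : c₀' ≫ a₀ = x₀' := Over.OverMorphism.ext hc₀
    rw [← Category.assoc, ← Functor.map_comp, e1, Functor.map_comp, Category.assoc, sq₀.w,
      ← Category.assoc, ← Functor.map_comp, e2]
  have hd : RepWith @Etale d :=
    MorphismProperty.comp_mem _ _ _ ((AlgSp.repWith_yon_map_iff _ ιV).2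
      (inferInstanceAs (Etale (Scheme.Opens.ι V₀)))) hd₀
  -- the pullback of the chart and its points over the fibre
  obtain ⟨W, a, b, sq⟩ := H12AlgSp.Hilb.exists_square hd.1 f
  have : Etale a.left := hd.property f _ a sq
  have hpts : ∀ x : {x : sΩ ⟶ X.left // x ≫ p.left = yb},
      ∃ w : sΩ ⟶ W.left, w ≫ a.left = x.1 ∧ w ≫ b.left = v := fun x => by
    obtain ⟨r, h1, h2⟩ := hq.trans Ω x₀ x.1 (hx₀.trans x.2.symm)
    let r' : T₀ ⟶ R := Over.homMk r (by
      change r ≫ R.hom = x₀ ≫ X.hom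
      rw [← Over.w s, ← Category.assoc, h1])
    have hr' : r' ≫ s = x₀' := Over.OverMorphism.ext h1
    obtain ⟨w, hw1, hw2⟩ := sq.exists_lift ((yon S).map v') ((yon S).map (r' ≫ t))
      (by rw [hv', Functor.map_comp, Category.assoc, ← hf, ← Category.assoc, ← Functor.map_comp, hr'])
    obtain ⟨w, rfl⟩ := (yon S).map_surjective w
    rw [← Functor.map_comp] at hw1 hw2
    exact ⟨w.left, (congrArg (fun t => t.left) ((yon S).map_injective hw2)).trans h2,
      congrArg (fun t => t.left) ((yon S).map_injective hw1)⟩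
  choose w hwa hwb using hpts
  obtain ⟨E₁, _, e₁, _, de, hde, sec, hs, hsw⟩ := exists_nbhd_section p.left a.left yb w hwa
  -- invariance near the fibre
  let P₁ : Over S := Over.mk (pullback.fst p.left e₁ ≫ X.hom)
  let pr : P₁ ⟶ X := Over.homMk (pullback.fst p.left e₁) rfl
  let sW : P₁ ⟶ W := Over.homMk sec (by
    rw [← Over.w a, ← Category.assoc, hs]; rfl)
  let s₂ : P₁ ⟶ V := sW ≫ b
  have hs₂ : (yon S).map s₂ ≫ d = (yon S).map pr ≫ f := by
    have e2 : sW ≫ a = pr := Over.OverMorphism.ext hs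
    rw [Functor.map_comp, Category.assoc, sq.w, ← Category.assoc, ← Functor.map_comp, e2]
  let RE : Over S := Over.mk (pullback.fst (s.left ≫ p.left) e₁ ≫ R.hom)
  let prR : RE ⟶ R := Over.homMk (pullback.fst (s.left ≫ p.left) e₁) rfl
  let qR : RE.left ⟶ E₁ := pullback.snd (s.left ≫ p.left) e₁
  let σ₀ : RE.left ⟶ P₁.left := pullback.map (s.left ≫ p.left) e₁ p.left e₁ s.left (𝟙 _) (𝟙 _)
      (by simp) (by simp)
  let τ₀ : RE.left ⟶ P₁.left := pullback.map (s.left ≫ p.left) e₁ p.left e₁ t.left (𝟙 _) (𝟙 _)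
      (by simp [hq.w]) (by simp)
  let σ' : RE ⟶ P₁ := Over.homMk σ₀ (by
    change σ₀ ≫ pullback.fst p.left e₁ ≫ X.hom = pullback.fst (s.left ≫ p.left) e₁ ≫ R.hom
    simp [σ₀, pullback.map])
  let τ' : RE ⟶ P₁ := Over.homMk τ₀ (by
    change τ₀ ≫ pullback.fst p.left e₁ ≫ X.hom = pullback.fst (s.left ≫ p.left) e₁ ≫ R.hom
    simp [τ₀, pullback.map])
  have hσ : σ' ≫ pr = prR ≫ s := Over.OverMorphism.ext (by simp [σ', σ₀, pr, prR, pullback.map])
  have hτ : τ' ≫ pr = prR ≫ t := Over.OverMorphism.ext (by simp [τ', τ₀, pr, prR, pullback.map])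
  obtain ⟨Rel, r₁, r₂, sqR⟩ := H12AlgSp.Hilb.exists_square hd.1 d
  have : Etale r₁.left := hd.property d _ r₁ sqR
  obtain ⟨δ, hδ₁, hδ₂⟩ : ∃ δ : V ⟶ Rel, δ ≫ r₂ = 𝟙 V ∧ δ ≫ r₁ = 𝟙 V := by
    obtain ⟨δ, h1, h2⟩ := sqR.exists_lift (𝟙 ((yon S).obj V)) (𝟙 _) rfl
    obtain ⟨δ, rfl⟩ := (yon S).map_surjective δ
    exact ⟨δ, (yon S).map_injective (by rw [Functor.map_comp, h1, CategoryTheory.Functor.map_id]),
      (yon S).map_injective (by rw [Functor.map_comp, h2, CategoryTheory.Functor.map_id])⟩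
  have hδl : δ.left ≫ r₁.left = 𝟙 _ := congrArg (fun t => t.left) hδ₂
  have : Etale (δ.left ≫ r₁.left) := by rw [hδl]; infer_instance
  have : Etale δ.left := Etale.of_comp δ.left r₁.left
  have : IsSplitMono δ.left := ⟨⟨⟨r₁.left, hδl⟩⟩⟩
  have : IsOpenImmersion δ.left := IsOpenImmersion.of_flat_of_mono δ.left
  have hpair : ∃ r : RE ⟶ Rel, r ≫ r₂ = τ' ≫ s₂ ∧ r ≫ r₁ = σ' ≫ s₂ := by
    obtain ⟨r, h1, h2⟩ := sqR.exists_lift ((yon S).map (τ' ≫ s₂)) ((yon S).map (σ' ≫ s₂)) (by
      rw [(yon S).map_comp τ' s₂, (yon S).map_comp σ' s₂, Category.assoc, Category.assoc, hs₂,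
        ← Category.assoc, ← Category.assoc, ← Functor.map_comp, ← Functor.map_comp, hτ, hσ,
        Functor.map_comp, Functor.map_comp, Category.assoc, Category.assoc, hf])
    obtain ⟨r, rfl⟩ := (yon S).map_surjective r
    rw [← Functor.map_comp] at h1 h2
    exact ⟨r, (yon S).map_injective h1, (yon S).map_injective h2⟩
  obtain ⟨r, hr2, hr1⟩ := hpair
  have : IsIntegralHom (s.left ≫ p.left) := inferInstance
  have : IsIntegralHom qR := inferInstanceAs (IsIntegralHom (pullback.snd (s.left ≫ p.left) e₁))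
  let q₁ := pullback.snd p.left e₁
  let O : Set E₁ := (qR '' (r.left ⁻¹' (Set.range δ.left)ᶜ))ᶜ
  have hO : IsOpen O := (qR.isClosedMap _
    (δ.left.isOpenEmbedding.isOpen_range.isClosed_compl.preimage r.left.continuous)).isOpen_compl
  have hdO : de pt ∈ O := by
    rintro ⟨z, hz, ez⟩
    obtain ⟨c, hc, rfl⟩ := exists_point_lift qR de z ez
    let Tt : Over S := Over.mk (c ≫ RE.hom)
    let c' : Tt ⟶ RE := Over.homMk c rfl
    have key : ∀ u : sΩ ⟶ pullback p.left e₁, u ≫ q₁ = de → u ≫ sec ≫ b.left = v := fun u hu => by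
      have hx : (u ≫ pullback.fst p.left e₁) ≫ p.left = yb := by
        rw [Category.assoc, pullback.condition, ← Category.assoc, hu, hde]
      have hul : u = pullback.lift (u ≫ pullback.fst p.left e₁) de (hx.trans hde.symm) :=
        pullback.hom_ext (pullback.lift_fst _ _ _).symm (hu.trans (pullback.lift_snd _ _ _).symm)
      rw [hul, ← Category.assoc, hsw ⟨_, hx⟩, hwb]
    have e1 : c ≫ τ'.left ≫ s₂.left = c ≫ σ'.left ≫ s₂.left := by
      have h2 : ∀ m : RE.left ⟶ P₁.left, m ≫ q₁ = qR → (c ≫ m) ≫ q₁ = de := fun m hm => by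
        rw [Category.assoc, hm, hc]
      exact ((Category.assoc _ _ _).symm.trans (key _ (h2 τ₀ (by simp [τ₀, q₁, qR, pullback.map])))).trans
        ((Category.assoc _ _ _).symm.trans (key _ (h2 σ₀ (by simp [σ₀, q₁, qR, pullback.map])))).symm
    have e2 : c' ≫ r = (c' ≫ σ' ≫ s₂) ≫ δ := by
      apply (yon S).map_injective
      refine sqR.hom_ext ?_ ?_
      · rw [← Functor.map_comp, ← Functor.map_comp, Category.assoc, hr2, Category.assoc, hδ₁,
          Category.comp_id]
        exact congrArg _ (Over.OverMorphism.ext e1)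
      · rw [← Functor.map_comp, ← Functor.map_comp, Category.assoc, hr1, Category.assoc, hδ₂,
          Category.comp_id]
    exact hz ⟨(c ≫ σ'.left ≫ s₂.left) pt, (congrArg (fun k : Tt ⟶ Rel => k.left pt) e2).symm⟩
  obtain ⟨_, ⟨E₀, hE₀, rfl⟩, hdE, hEO⟩ := E₁.isBasis_affineOpens.exists_subset_of_mem_open hdO hO
  let j := Scheme.Opens.ι E₀
  have : IsAffine (Scheme.Opens.toScheme E₀) := hE₀
  let E : Over S := Over.mk ((j ≫ e₁) ≫ Y.hom)
  let e : E ⟶ Y := Over.homMk (j ≫ e₁) rfl
  let P : Over S := Over.mk (pullback.fst p.left e.left ≫ X.hom)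
  let φ : P ⟶ P₁ := Over.homMk (pullback.lift (pullback.fst p.left e.left)
      (pullback.snd p.left e.left ≫ j) (by rw [Category.assoc]; exact pullback.condition)) (by
    change pullback.lift _ _ _ ≫ pullback.fst p.left e₁ ≫ X.hom = pullback.fst p.left e.left ≫ X.hom
    rw [pullback.lift_fst_assoc])
  let PR : Over S := Over.mk (pullback.fst (s.left ≫ p.left) e.left ≫ R.hom)
  let ψ : PR ⟶ RE := Over.homMk (pullback.lift (pullback.fst (s.left ≫ p.left) e.left)
      (pullback.snd (s.left ≫ p.left) e.left ≫ j) (by rw [Category.assoc]; exact pullback.condition)) (by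
    change pullback.lift _ _ _ ≫ pullback.fst (s.left ≫ p.left) e₁ ≫ R.hom = _
    rw [pullback.lift_fst_assoc]; rfl)
  have hinv : ψ ≫ τ' ≫ s₂ = ψ ≫ σ' ≫ s₂ := by
    have hl : Set.range (ψ ≫ r).left ⊆ Set.range δ.left := by
      rintro _ ⟨z, rfl⟩
      by_contra hc
      refine hEO (?_ : qR (ψ.left z) ∈ (E₀ : Set E₁)) ⟨ψ.left z, hc, rfl⟩
      erw [← Scheme.Hom.comp_apply]
      simp only [ψ, qR, Over.homMk_left, pullback.lift_snd]
      exact (Scheme.Opens.range_ι E₀).le ⟨_, rfl⟩
    let m := IsOpenImmersion.lift δ.left (ψ ≫ r).left hl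
    have hf' := IsOpenImmersion.lift_fac δ.left (ψ ≫ r).left hl
    apply Over.OverMorphism.ext
    have h1 : (ψ ≫ σ' ≫ s₂).left = m := by
      rw [← hr1, ← Category.assoc, Over.comp_left, ← hf', Category.assoc, hδl, Category.comp_id]
    have h2 : (ψ ≫ τ' ≫ s₂).left = m := by
      rw [← hr2, ← Category.assoc, Over.comp_left, ← hf', Category.assoc,
        show δ.left ≫ r₂.left = 𝟙 _ from congrArg (fun t => t.left) hδ₁, Category.comp_id]
    exact h2.trans h1.symm
  have : IsAffine E.left := hE₀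
  have : Flat e.left := inferInstanceAs (Flat (j ≫ e₁))
  have hqE := hq.baseChange e.left
  obtain ⟨k₀, hk₀⟩ := hqE.exists_desc_affine (φ ≫ s₂).left (by
    refine Eq.trans ?_ ((congrArg (fun k : PR ⟶ V => k.left) hinv.symm).trans ?_)
    · simp only [Over.comp_left, ← Category.assoc]
      congr 1
      apply pullback.hom_ext <;> simp [φ, ψ, σ', σ₀, pullback.map]
    · simp only [Over.comp_left, ← Category.assoc]
      congr 1
      apply pullback.hom_ext <;> simp [φ, ψ, τ', τ₀, pullback.map])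
  let pE : P ⟶ E := Over.homMk (pullback.snd p.left e.left) (by
    change pullback.snd p.left e.left ≫ e.left ≫ Y.hom = pullback.fst p.left e.left ≫ X.hom
    rw [← Over.w p, ← Category.assoc, ← Category.assoc, pullback.condition])
  have : IsAffine P.left := inferInstanceAs (IsAffine (pullback p.left e.left))
  have : IsIntegralHom pE.left := hqE.integral
  have hk₀V : k₀ ≫ V.hom = E.hom := by
    let Z : Over S := Over.mk (𝟙 S)
    let ka : E ⟶ Z := Over.homMk E.hom (Category.comp_id _)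
    have h1 : pullback.snd p.left e.left ≫ k₀ ≫ V.hom = pE.left ≫ E.hom := by
      rw [← Category.assoc, hk₀]
      exact (Over.w (φ ≫ s₂)).trans (Over.w pE).symm
    have : IsAffine (Over.mk (terminal.from P.left)).left := ‹IsAffine P.left›
    have : IsAffine (Over.mk (terminal.from E.left)).left := ‹IsAffine E.left›
    have : IsIntegralHom (Over.homMk pE.left (terminal.hom_ext _ _) :
        Over.mk (terminal.from P.left) ⟶ Over.mk (terminal.from E.left)).left := ‹IsIntegralHom pE.left›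
    exact congrArg (fun t => t.left) (eq_of_comp_eq_hom (S := ⊤_ Scheme.{u})
      (X := Over.mk (terminal.from P.left)) (Y := Over.mk (terminal.from E.left))
      (Z := Over.mk (terminal.from S)) (Over.homMk pE.left (terminal.hom_ext _ _)) hqE.inj
      (k := Over.homMk (k₀ ≫ V.hom) (terminal.hom_ext _ _))
      (k' := Over.homMk E.hom (terminal.hom_ext _ _)) (Over.OverMorphism.ext h1))
  let k : E ⟶ V := Over.homMk k₀ hk₀V
  refine ⟨E, e, hE₀, inferInstanceAs (Etale (j ≫ e₁)), (yon S).map k ≫ d, ?_, fun T a' b' hab => ?_⟩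
  · obtain ⟨o, ho⟩ := (Scheme.Opens.range_ι E₀).ge hdE
    refine ⟨o, ?_⟩
    change (j ≫ e₁) o = y
    rw [Scheme.Hom.comp_apply, ho, ← Scheme.Hom.comp_apply, hde, hyb]
  · let l : T ⟶ P := Over.homMk (pullback.lift a'.left b'.left (congrArg (fun t => t.left) hab)) (by
      change pullback.lift _ _ _ ≫ pullback.fst p.left e.left ≫ X.hom = T.hom
      rw [pullback.lift_fst_assoc, Over.w])
    have hla : l ≫ φ ≫ pr = a' := Over.OverMorphism.ext (by simp [l, φ, pr])
    have hlb : l ≫ φ ≫ s₂ = b' ≫ k := Over.OverMorphism.ext (by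
      change l.left ≫ (φ ≫ s₂).left = b'.left ≫ k₀
      rw [← hk₀, ← Category.assoc]
      congr 1
      exact pullback.lift_snd _ _ _)
    rw [← hla, ← Category.assoc ((yon S).map b'), ← Functor.map_comp, ← hlb]
    simp only [Functor.map_comp, Category.assoc, hs₂]

include hq in
/-- An invariant map from `X` to an algebraic space factors uniquely through the quotient. -/
theorem existsUnique_factor {N : Sp S} (hN : IsAlgSpace N) (f : (yon S).obj X ⟶ N)
    (hf : (yon S).map s ≫ f = (yon S).map t ≫ f) :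
    ∃! k : (yon S).obj Y ⟶ N, (yon S).map p ≫ k = f := by
  have : IsIntegralHom p.left := hq.integral
  refine existsUnique_of_exists_of_unique ?_
    (fun k k' h h' => eq_of_comp_eq hN p hq.inj (h.trans h'.symm))
  choose E e hE he k hy hk using exists_local_desc p s t hq hN f hf
  have hJ : Sieve.ofArrows E e ∈ J S Y := H13AlgSp.ofArrows_mem_J _
    (fun i => by have := he i; infer_instance) (fun i => by have := he i; infer_instance)
    (fun y => ⟨y, hy y⟩)
  have compat : ∀ (i j : Y.left) (W : Over S) (l : W ⟶ E i) (l' : W ⟶ E j),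
      l ≫ e i = l' ≫ e j → (yon S).map l ≫ k i = (yon S).map l' ≫ k j := by
    intro i j W l l' hll
    have := hE i
    have := hE j
    have := he i
    have := he j
    let D : Over S := Over.mk ((pullback.fst (e i).left (e j).left ≫ (e i).left) ≫ Y.hom)
    let dY : D ⟶ Y := Over.homMk (pullback.fst (e i).left (e j).left ≫ (e i).left) rfl
    let d₁ : D ⟶ E i := Over.homMk (pullback.fst (e i).left (e j).left) (by
      change _ ≫ (E i).hom = (_ ≫ (e i).left) ≫ Y.hom
      rw [Category.assoc, Over.w])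
    let d₂ : D ⟶ E j := Over.homMk (pullback.snd (e i).left (e j).left) (by
      change _ ≫ (E j).hom = (_ ≫ (e i).left) ≫ Y.hom
      rw [pullback.condition, Category.assoc, Over.w])
    have hd₁ : d₁ ≫ e i = dY := Over.OverMorphism.ext rfl
    have hd₂ : d₂ ≫ e j = dY := Over.OverMorphism.ext pullback.condition.symm
    have : IsAffine D.left := inferInstanceAs (IsAffine (pullback (e i).left (e j).left))
    have : Flat dY.left := inferInstanceAs (Flat (pullback.fst (e i).left (e j).left ≫ (e i).left))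
    have hqD := hq.baseChange dY.left
    let P : Over S := Over.mk (pullback.fst p.left dY.left ≫ X.hom)
    let pa : P ⟶ X := Over.homMk (pullback.fst p.left dY.left) rfl
    let pD : P ⟶ D := Over.homMk (pullback.snd p.left dY.left) (by
      change pullback.snd p.left dY.left ≫ dY.left ≫ Y.hom = pullback.fst p.left dY.left ≫ X.hom
      rw [← Over.w p, ← Category.assoc, ← Category.assoc, pullback.condition])
    have : IsAffine P.left := inferInstanceAs (IsAffine (pullback p.left dY.left))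
    have : IsIntegralHom pD.left := hqD.integral
    have hpa : pa ≫ p = pD ≫ dY := Over.OverMorphism.ext pullback.condition
    have key : (yon S).map d₁ ≫ k i = (yon S).map d₂ ≫ k j := eq_of_comp_eq hN pD hqD.inj (by
      rw [← Category.assoc, ← Category.assoc, ← Functor.map_comp, ← Functor.map_comp,
        ← hk i P pa (pD ≫ d₁) (by rw [Category.assoc, hd₁, hpa]),
        ← hk j P pa (pD ≫ d₂) (by rw [Category.assoc, hd₂, hpa])])
    let m : W ⟶ D := Over.homMk (pullback.lift l.left l'.left (congrArg (fun t => t.left) hll)) (by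
      change pullback.lift _ _ _ ≫ (pullback.fst _ _ ≫ (e i).left) ≫ Y.hom = W.hom
      rw [← Category.assoc, ← Category.assoc, pullback.lift_fst, Category.assoc, Over.w, Over.w])
    have hm₁ : m ≫ d₁ = l := Over.OverMorphism.ext (pullback.lift_fst _ _ _)
    have hm₂ : m ≫ d₂ = l' := Over.OverMorphism.ext (pullback.lift_snd _ _ _)
    rw [← hm₁, ← hm₂, Functor.map_comp, Functor.map_comp, Category.assoc, Category.assoc, key]
  have hlift : ∀ {W : Over S} (g : W ⟶ Y), Sieve.ofArrows E e g →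
      ∃ (i : Y.left) (l : W ⟶ E i), l ≫ e i = g := fun g hg => by
    obtain ⟨V, l, _, ⟨i⟩, rfl⟩ := hg
    exact ⟨i, l, rfl⟩
  choose iW lW hlW using @hlift
  obtain ⟨K, hK⟩ := H14Quot.yon_glue hJ (fun W g hg => (yon S).map (lW g hg) ≫ k (iW g hg))
    (fun {W W'} c g hg => by
      rw [← Category.assoc, ← Functor.map_comp]
      exact compat _ _ _ _ _ (by rw [Category.assoc, hlW, hlW]))
  refine ⟨K, H14Quot.yon_ext ((J S).pullback_stable p hJ) fun W g hg => ?_⟩
  rw [← Category.assoc, ← Functor.map_comp, hK _ hg]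
  exact (hk _ W g _ (hlW _ hg).symm).symm


end Groth.Agent.H14KM
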