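import Groth.Agent.H14KM.WNAQuot
import Groth.Agent.H14KM.LocalCover
import Groth.Agent.S16704
import Groth.Agent.H14Fib.Fp

/-!
# Base change of the coarse moduli space of a well-nigh affine stack
-/

set_option autoImplicit false
set_option backward.isDefEq.respectTransparency false
set_option backward.isDefEq.respectTransparency.types false

universe u

open CategoryTheory CategoryTheory.Functor Opposite AlgebraicGeometry CategoryTheory.Limits
open AlgSp (yon J)

noncomputable section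

namespace Groth.Agent.H14KM

open H14Fib H14Stk H14AlgSt
open H14LocalCat (secMor secMor_natural secMor_comp secMor_ofSpMap secMor_eq_of_iso)

namespace WNAData

variable {S : Scheme.{u}} {𝒳 : AlgSt.Cat S} {U : Over S} {x : FibCat.overCat U ⥤ᵇ 𝒳} (D : WNAData x)
  {M' : AlgSp.Sp S} (g : M' ⟶ (yon S).obj D.Y)

/-- The base change. -/
abbrev bc : AlgSt.Cat S := FibCat.fp (AlgSt.ofSpMap g) D.π

lemma secMor_π_xo {W : Over S} (a : W ⟶ U) :
    secMor D.π (xo x a) = (yon S).map (eqToHom (xo_obj x a)) ≫ (yon S).map (a ≫ D.p) := by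
  rw [Functor.map_comp, ← D.chartSec_π, map_chartSec, ← Category.assoc, ← Functor.map_comp,
    eqToHom_trans, eqToHom_refl, CategoryTheory.Functor.map_id, Category.id_comp]

lemma secMor_π_xo' {W : Over S} (a : W ⟶ U) :
    (D.π.obj (xo x a)).sec = ((yon S).obj D.Y).obj.map
      (eqToHom ((D.π.w_obj (xo x a)).trans (xo_obj x a))).op
      ((J S).uliftYonedaEquiv ((yon S).map (a ≫ D.p))) := by
  rw [H14Stk.sec_eq D.π (xo x a)]
  have h : H14Stk.secAt D.π (xo x a) = (J S).uliftYonedaEquiv (secMor D.π (xo x a)) :=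
    (Equiv.apply_symm_apply _ _).symm
  rw [h, secMor_π_xo, ← H14Quot.equiv_map, H14Stk.pmap_comp, eqToHom_trans]
  rfl

lemma ob_lift {W : Over S} (a : W ⟶ U) (y : (yon S).obj W ⟶ M')
    (h : (yon S).map (a ≫ D.p) = y ≫ g) :
    ((yon S).obj D.Y).obj.map (eqToHom ((D.π.w_obj (xo x a)).trans (xo_obj x a)).symm).op
      (D.π.obj (xo x a)).sec = g.hom.app (op W) ((J S).uliftYonedaEquiv y) := by
  rw [secMor_π_xo', H14Stk.pmap_comp, eqToHom_trans, eqToHom_refl, h,
    GrothendieckTopology.uliftYonedaEquiv_comp]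
  exact H14Stk.pmap_id _

/-- The object of the base change of compatible points. -/
def ob {W : Over S} (a : W ⟶ U) (y : (yon S).obj W ⟶ M') (h : (yon S).map (a ≫ D.p) = y ≫ g) :
    (D.bc g).obj :=
  ⟨{ fst := ⟨W, (J S).uliftYonedaEquiv y⟩
     snd := xo x a
     iso := H14Stk.eltIso ((D.π.w_obj (xo x a)).trans (xo_obj x a)).symm (D.ob_lift g a y h) },
   IsHomLift.of_fac' _ _ _ rfl ((D.π.w_obj _).trans (xo_obj x a)) (by
    change eqToHom ((D.π.w_obj (xo x a)).trans (xo_obj x a)).symm = _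
    simp)⟩

lemma compat (ω : (D.bc g).obj) :
    secMor (FibCat.fpFst (AlgSt.ofSpMap g) D.π) ω ≫ g =
      (yon S).map (eqToHom (H14Fib.fp_snd_obj ω).symm) ≫ secMor D.π ω.obj.snd := by
  have e := secMor_eq_of_iso (FibCat.fpIso (AlgSt.ofSpMap g) D.π) ω
  rw [secMor_ofSpMap, secMor_comp] at e
  exact e

lemma secMor_fst_ob {W : Over S} (a : W ⟶ U) (y : (yon S).obj W ⟶ M')
    (h : (yon S).map (a ≫ D.p) = y ≫ g) :
    secMor (FibCat.fpFst (AlgSt.ofSpMap g) D.π) (D.ob g a y h) = y := by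
  refine Eq.trans (congrArg (J S).uliftYonedaEquiv.symm ?_) (Equiv.symm_apply_apply _ y)
  exact H14Stk.pmap_id _

lemma exists_obHom (ω : (D.bc g).obj) {W : Over S} (v : W ⟶ (D.bc g).p.obj ω) (a : W ⟶ U)
    (hl : IsChartLift x ω.obj.snd (v ≫ eqToHom (H14Fib.fp_snd_obj ω).symm) a)
    (y : (yon S).obj W ⟶ M')
    (hy : (yon S).map v ≫ secMor (FibCat.fpFst (AlgSt.ofSpMap g) D.π) ω = y)
    (h : (yon S).map (a ≫ D.p) = y ≫ g) :
    ∃ m : D.ob g a y h ⟶ ω, (D.bc g).p.IsHomLift v m := by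
  obtain ⟨m, hm⟩ := hl
  let A : (⟨W, (J S).uliftYonedaEquiv y⟩ : Stk.EltObj M'.obj) ⟶ ω.obj.fst :=
    ⟨v, by
      have h0 : secMor (FibCat.fpFst (AlgSt.ofSpMap g) D.π) ω =
          (J S).uliftYonedaEquiv.symm ω.obj.fst.sec :=
        congrArg (J S).uliftYonedaEquiv.symm (H14Stk.pmap_id _)
      refine Eq.trans ?_ (congrArg (J S).uliftYonedaEquiv hy)
      rw [← H14Quot.equiv_map, h0]
      exact (congrArg (M'.obj.map v.op) (Equiv.apply_symm_apply _ _)).symm⟩
  have hw : (AlgSt.ofSpMap g).map A ≫ ω.obj.iso.hom =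
      (D.ob g a y h).obj.iso.hom ≫ D.π.map m := by
    apply Stk.EltObj.hom_ext
    have h1 : ω.obj.iso.hom.hom = eqToHom rfl ≫ 𝟙 _ ≫
        eqToHom ((H14Fib.fp_snd_obj ω).symm.trans (D.π.w_obj ω.obj.snd).symm) :=
      @IsHomLift.fac' _ _ _ _ _ _ _ _ _ _ _ ω.property
    have h2 : (D.π.map m).hom = eqToHom (D.π.w_obj _) ≫ 𝒳.p.map m ≫
        eqToHom (D.π.w_obj ω.obj.snd).symm := Functor.congr_hom D.π.w m
    have h3 : 𝒳.p.map m = eqToHom (xo_obj x a) ≫ (v ≫ eqToHom (H14Fib.fp_snd_obj ω).symm) := by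
      rw [IsHomLift.fac' 𝒳.p (v ≫ eqToHom (H14Fib.fp_snd_obj ω).symm) m]
      simp
    change v ≫ ω.obj.iso.hom.hom =
      eqToHom ((D.π.w_obj (xo x a)).trans (xo_obj x a)).symm ≫ (D.π.map m).hom
    rw [h1, h2, h3]
    simp
  refine ⟨H14Fib.fpHom (x := D.ob g a y h) A m hw, (H14Fib.fp_isHomLift_iff v _).2 ?_⟩
  exact IsHomLift.map _ A

lemma secMor_restrict {Q : AlgSp.Sp S} (φ : D.bc g ⥤ᵇ AlgSt.ofSp Q) (ω : (D.bc g).obj) {W : Over S}
    (v : W ⟶ (D.bc g).p.obj ω) (a : W ⟶ U)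
    (hl : IsChartLift x ω.obj.snd (v ≫ eqToHom (H14Fib.fp_snd_obj ω).symm) a)
    (y : (yon S).obj W ⟶ M')
    (hy : (yon S).map v ≫ secMor (FibCat.fpFst (AlgSt.ofSpMap g) D.π) ω = y)
    (h : (yon S).map (a ≫ D.p) = y ≫ g) :
    (yon S).map v ≫ secMor φ ω = secMor φ (D.ob g a y h) := by
  obtain ⟨m, hm⟩ := D.exists_obHom g ω v a hl y hy h
  rw [← secMor_natural φ m]
  obtain rfl : v = (D.bc g).p.map m :=
    @IsHomLift.eq_of_isHomLift _ _ _ _ (D.bc g).p (D.ob g a y h) ω v m hm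
  rfl

lemma isChartLift_self {W W' : Over S} (k : W' ⟶ W) (a : W ⟶ U) :
    IsChartLift x (xo x a) (k ≫ eqToHom (xo_obj x a).symm) (k ≫ a) := by
  refine ⟨xm x k rfl, ?_⟩
  have := homLift_comp' (xm_lift x k (rfl : k ≫ a = k ≫ a))
    (IsHomLift.of_fac' 𝒳.p (eqToHom (xo_obj x a).symm) (𝟙 (xo x a)) (xo_obj x a) rfl (by simp))
  simpa using this

lemma isChartLift_arr {W : Over S} (r : Arr x W) :
    IsChartLift x (xo x r.t) (eqToHom (xo_obj x r.t).symm) r.s := by
  refine ⟨r.φ, ?_⟩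
  have := homLift_comp' r.lift
    (IsHomLift.of_fac' 𝒳.p (eqToHom (xo_obj x r.t).symm) (𝟙 (xo x r.t)) (xo_obj x r.t) rfl (by simp))
  simpa using this

lemma secMor_ob_comp {Q : AlgSp.Sp S} (φ : D.bc g ⥤ᵇ AlgSt.ofSp Q) {W W' : Over S} (k : W' ⟶ W)
    (a : W ⟶ U) (y : (yon S).obj W ⟶ M') (h : (yon S).map (a ≫ D.p) = y ≫ g) :
    (yon S).map k ≫ secMor φ (D.ob g a y h) =
      secMor φ (D.ob g (k ≫ a) ((yon S).map k ≫ y)
        (by rw [Category.assoc k, Functor.map_comp, h, Category.assoc])) :=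
  D.secMor_restrict g φ (D.ob g a y h) k _ (isChartLift_self k a) _
    (congrArg ((yon S).map k ≫ ·) (D.secMor_fst_ob g a y h)) _

lemma secMor_ob_congr {Q : AlgSp.Sp S} (φ : D.bc g ⥤ᵇ AlgSt.ofSp Q) {W : Over S} {a a' : W ⟶ U}
    {y y' : (yon S).obj W ⟶ M'} (ha : a = a') (hy : y = y') (h : (yon S).map (a ≫ D.p) = y ≫ g) :
    (secMor φ (D.ob g a y h) : (yon S).obj W ⟶ Q) =
      secMor φ (D.ob g a' y' (ha ▸ hy ▸ h)) := by
  subst ha hy; rfl

/-- The base change along a flat map is a categorical moduli space. -/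
theorem isCatModuli_bc (hM' : AlgSp.IsAlgSpace M') (hg : AlgSp.LocP @Flat g) :
    AlgSt.IsCatModuli (FibCat.fpFst (AlgSt.ofSpMap g) D.π) := by
  have := D.integral
  have := D.finiteσ
  refine H14LocalCat.isCatModuli_of_local hM' _ fun Y₀ hY₀ g₀ hg₀ N hN φ => ?_
  obtain ⟨e₀, he₀⟩ := (yon S).map_surjective (g₀ ≫ g)
  have : Flat e₀.left := hg g₀ (𝟙 _) e₀ hg₀ (AlgSp.repWith_id _ D.Y) (by rw [he₀, Category.comp_id])
  refine existsUnique_good_of_small _ φ g₀ fun y => ?_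
  obtain ⟨O, hyO, hO⟩ := D.loc (e₀.left y)
  refine ⟨e₀.left ⁻¹ᵁ O, hyO, fun Y' c hY' hc hcO => ?_⟩
  obtain ⟨g', hg'⟩ : ∃ g', g' = (yon S).map c ≫ g₀ := ⟨_, rfl⟩
  obtain ⟨e, he'⟩ : ∃ e, e = c ≫ e₀ := ⟨_, rfl⟩
  rw [← hg']
  have he : (yon S).map e = g' ≫ g := by rw [he', hg', Functor.map_comp, he₀, Category.assoc]
  have : Flat e.left := by rw [he']; exact inferInstanceAs (Flat (c.left ≫ e₀.left))
  have heO : Set.range e.left ⊆ (O : Set D.Y.left) := by
    rw [he']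
    rintro _ ⟨z, rfl⟩
    exact hcO ⟨z, rfl⟩
  let U' : Over S := Over.mk (pullback.snd D.p.left e.left ≫ Y'.hom)
  let pr₂ : U' ⟶ Y' := Over.homMk (pullback.snd D.p.left e.left) rfl
  let pr₁ : U' ⟶ U := Over.homMk (pullback.fst D.p.left e.left) (by
    change pullback.fst D.p.left e.left ≫ U.hom = pullback.snd D.p.left e.left ≫ Y'.hom
    rw [← Over.w D.p, ← Over.w e, ← Category.assoc, ← Category.assoc, pullback.condition])
  let R' : Over S := Over.mk (pullback.snd (D.ρ.s.left ≫ D.p.left) e.left ≫ Y'.hom)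
  have hw : D.ρ.t.left ≫ D.p.left = D.ρ.s.left ≫ D.p.left := D.w.symm
  let σ' : R' ⟶ U' := Over.homMk
    (pullback.map (D.ρ.s.left ≫ D.p.left) e.left D.p.left e.left D.ρ.s.left (𝟙 _) (𝟙 _)
      (by simp) (by simp))
    (by
      change _ ≫ pullback.snd D.p.left e.left ≫ Y'.hom = pullback.snd _ e.left ≫ Y'.hom
      simp [pullback.map])
  let τ' : R' ⟶ U' := Over.homMk
    (pullback.map (D.ρ.s.left ≫ D.p.left) e.left D.p.left e.left D.ρ.t.left (𝟙 _) (𝟙 _)
      (by simp [hw]) (by simp))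
    (by
      change _ ≫ pullback.snd D.p.left e.left ≫ Y'.hom = pullback.snd _ e.left ≫ Y'.hom
      simp [pullback.map])
  have hq' : IsRelQuot pr₂.left σ'.left τ'.left := hO _ e.left heO
  have : IsAffine (pullback D.p.left e.left) := isAffine_of_isAffineHom (pullback.snd D.p.left e.left)
  have : IsAffine U'.left := this
  have : IsAffine (pullback (D.ρ.s.left ≫ D.p.left) e.left) :=
    isAffine_of_isAffineHom (pullback.snd (D.ρ.s.left ≫ D.p.left) e.left)
  have : IsAffine R'.left := this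
  have hpr : pr₁ ≫ D.p = pr₂ ≫ e := Over.OverMorphism.ext pullback.condition
  have h0 : (yon S).map (pr₁ ≫ D.p) = ((yon S).map pr₂ ≫ g') ≫ g := by
    rw [hpr, Functor.map_comp, he, Category.assoc]
  let f : (yon S).obj U' ⟶ N := secMor φ (D.ob g pr₁ ((yon S).map pr₂ ≫ g') h0)
  let prR : R' ⟶ D.R := Over.homMk (pullback.fst (D.ρ.s.left ≫ D.p.left) e.left) (by
    change pullback.fst _ _ ≫ D.R.hom = pullback.snd (D.ρ.s.left ≫ D.p.left) e.left ≫ Y'.hom
    rw [← Over.w e, ← Category.assoc, ← pullback.condition, Category.assoc, Category.assoc,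
      Over.w D.p, Over.w D.ρ.s])
  have hσ1 : σ' ≫ pr₁ = prR ≫ D.ρ.s := Over.OverMorphism.ext (by simp [σ', pr₁, prR, pullback.map])
  have hτ1 : τ' ≫ pr₁ = prR ≫ D.ρ.t := Over.OverMorphism.ext (by simp [τ', pr₁, prR, pullback.map])
  have h2 : σ' ≫ pr₂ = τ' ≫ pr₂ := Over.OverMorphism.ext (by simp [σ', τ', pr₂, pullback.map])
  have hf : (yon S).map σ' ≫ f = (yon S).map τ' ≫ f := by
    let r := Arr.pull D.fibGrpd prR D.ρ
    have hs : r.s = σ' ≫ pr₁ := (Arr.pull_s _ _ _).trans hσ1.symm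
    have ht : r.t = τ' ≫ pr₁ := (Arr.pull_t _ _ _).trans hτ1.symm
    let y : (yon S).obj R' ⟶ M' := (yon S).map τ' ≫ (yon S).map pr₂ ≫ g'
    have hy : (yon S).map σ' ≫ (yon S).map pr₂ ≫ g' = y := by
      simp only [y, ← Category.assoc, ← Functor.map_comp, h2]
    have hyt : (yon S).map (r.t ≫ D.p) = y ≫ g := by
      rw [ht, Category.assoc, Functor.map_comp, h0]
      simp only [y, Category.assoc]
    have hys : (yon S).map (r.s ≫ D.p) = y ≫ g := by
      rw [hs, Category.assoc, Functor.map_comp, h0, ← hy]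
      simp only [Category.assoc]
    rw [D.secMor_ob_comp g φ σ', D.secMor_ob_comp g φ τ', D.secMor_ob_congr g φ hs.symm hy,
      D.secMor_ob_congr g φ (y := (yon S).map τ' ≫ (yon S).map pr₂ ≫ g') (y' := y) ht.symm rfl]
    have := D.secMor_restrict g φ (D.ob g r.t y hyt) (𝟙 _) r.s (by
      erw [Category.id_comp]; exact isChartLift_arr r) y
      (by rw [CategoryTheory.Functor.map_id, Category.id_comp, secMor_fst_ob]) hys
    rw [CategoryTheory.Functor.map_id, Category.id_comp] at this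
    exact this.symm
  obtain ⟨k, hk, hu⟩ := existsUnique_factor pr₂ σ' τ' hq' hN f hf
  refine ⟨k, fun ω W v l hl => ?_, fun k' hk' => hu k' ?_⟩
  · let ξ := ω.obj.snd
    let eω : (D.bc g).p.obj ω ⟶ 𝒳.p.obj ξ := eqToHom (H14Fib.fp_snd_obj ω).symm
    refine H14Quot.yon_ext (R := (liftSieve x ξ).pullback (v ≫ eω))
      ((J S).pullback_stable _ (liftSieve_mem D.stack D.flat D.lfp D.surj ξ)) fun W' c hc => ?_
    obtain ⟨a, ha⟩ := hc
    have hy : (yon S).map (c ≫ v) ≫ secMor (FibCat.fpFst (AlgSt.ofSpMap g) D.π) ω =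
        (yon S).map (c ≫ l) ≫ g' := by
      rw [Functor.map_comp, Functor.map_comp, Category.assoc, Category.assoc, hl]
    have hae : a ≫ D.p = (c ≫ l) ≫ e := by
      apply (yon S).map_injective
      rw [(yon S).map_comp (c ≫ l) e, he, ← Category.assoc, ← hy, Category.assoc, D.compat g ω,
        ← Category.assoc, ← Functor.map_comp, (yon S).map_comp a D.p, ← D.chartSec_π,
        ← map_chartSec_of_lift D.π ha]
      simp only [eω, Category.assoc]
      rfl
    have h' : (yon S).map (a ≫ D.p) = ((yon S).map (c ≫ l) ≫ g') ≫ g := by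
      rw [hae, Functor.map_comp, he, Category.assoc]
    let q : W' ⟶ U' := Over.homMk (pullback.lift a.left (c ≫ l).left
      (congrArg (fun t => t.left) hae)) (by
      change pullback.lift _ _ _ ≫ pullback.snd D.p.left e.left ≫ Y'.hom = W'.hom
      rw [pullback.lift_snd_assoc]
      exact Over.w (c ≫ l))
    have hq1 : q ≫ pr₁ = a := Over.OverMorphism.ext (pullback.lift_fst _ _ _)
    have hq2 : q ≫ pr₂ = c ≫ l := Over.OverMorphism.ext (pullback.lift_snd _ _ _)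
    have hR : (yon S).map q ≫ f = secMor φ (D.ob g a ((yon S).map (c ≫ l) ≫ g') h') := by
      rw [D.secMor_ob_comp g φ q]
      exact D.secMor_ob_congr g φ hq1 (by rw [← Category.assoc, ← Functor.map_comp, hq2]) _
    rw [← Category.assoc, ← Category.assoc, ← Functor.map_comp, ← Functor.map_comp,
      D.secMor_restrict g φ ω (c ≫ v) a (by simpa [eω] using ha) _ hy h', ← hR, ← hk,
      ← Category.assoc, ← Functor.map_comp, hq2]
  · have := hk' (D.ob g pr₁ ((yon S).map pr₂ ≫ g') h0) U' (𝟙 _) pr₂ (by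
      rw [CategoryTheory.Functor.map_id, Category.id_comp, secMor_fst_ob])
    rw [CategoryTheory.Functor.map_id, Category.id_comp] at this
    exact this.symm

theorem isUnifCatModuli : AlgSt.IsUnifCatModuli D.π :=
  Groth.Agent.S16704.result S 𝒳 D.stack _ (AlgSp.IsAlgSpace.yon_obj D.Y) D.π
    fun Y' _ g hg => D.isCatModuli_bc g (AlgSp.IsAlgSpace.yon_obj Y') hg

theorem isCatModuli : AlgSt.IsCatModuli D.π := D.isUnifCatModuli.1

theorem isCoarseModuli : AlgSt.IsCoarseModuli D.π := ⟨D.isCatModuli, D.geomPtBij⟩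

end WNAData

end Groth.Agent.H14KM
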