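import Groth.Agent.H14KM.WNAQuot
import Groth.Prelude.Def_RedSub
import Groth.Agent.H27Weil.Geometry
import Mathlib.RingTheory.Adjoin.Tower

/-!
# Separatedness and finite type of the quotient over the base
-/

set_option autoImplicit false
set_option backward.isDefEq.respectTransparency false
set_option backward.isDefEq.respectTransparency.types false

universe u

open CategoryTheory CategoryTheory.Functor Opposite AlgebraicGeometry CategoryTheory.Limits

noncomputable section

namespace Groth.Agent.H14KM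

variable {S : Scheme.{u}} {U : Over S}

/-- A locally quasi-projective scheme is separated and locally of finite type. -/
theorem sep_lft_of_isLocallyQuasiProjective (hU : RedSub.IsLocallyQuasiProjective U) :
    IsSeparated U.hom ∧ LocallyOfFiniteType U.hom := by
  choose V hsV n e he hew using hU
  have hcov : iSup V = ⊤ := top_le_iff.1 fun s _ => TopologicalSpace.Opens.mem_iSup.2 ⟨s, hsV s⟩
  have key : ∀ s, IsSeparated (U.hom ∣_ V s) ∧ LocallyOfFiniteType (U.hom ∣_ V s) := fun s => by
    have := he s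
    have : IsProper (CohB1.ProjSpaceOver.toBase (n s) (V s : Scheme.{u})) := H27Weil.isProper_toBase _ _
    have h : U.hom ∣_ V s = (pullbackRestrictIsoRestrict U.hom (V s)).inv ≫ (e s ≫
        CohB1.ProjSpaceOver.toBase (n s) (V s : Scheme.{u})) := by
      rw [hew s, Iso.eq_inv_comp]
      exact pullbackRestrictIsoRestrict_hom_morphismRestrict U.hom (V s)
    rw [h]
    exact ⟨inferInstance, inferInstance⟩
  exact ⟨(IsZariskiLocalAtTarget.iff_of_iSup_eq_top (P := @IsSeparated) V hcov).2 fun s => (key s).1,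
    (IsZariskiLocalAtTarget.iff_of_iSup_eq_top (P := @LocallyOfFiniteType) V hcov).2 fun s => (key s).2⟩

namespace WNAData

variable {𝒳 : AlgSt.Cat S} {x : FibCat.overCat U ⥤ᵇ 𝒳} (D : WNAData x)

include D in
/-- The quotient of a separated scheme is separated. -/
theorem isSeparated_hom [IsSeparated U.hom] : IsSeparated D.Y.hom := by
  have := D.integral
  have := D.surjP
  let p := D.p.left
  let q := D.Y.hom
  have hw : p ≫ q = U.hom := Over.w D.p
  have : IsSeparated (p ≫ q) := by rw [hw]; infer_instance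
  refine ⟨IsClosedImmersion.of_isPreimmersion _ ?_⟩
  let m : Limits.pullback (p ≫ q) (p ≫ q) ⟶ Limits.pullback q q :=
    Limits.pullback.map (p ≫ q) (p ≫ q) q q p p (𝟙 S) (by simp) (by simp)
  haveI : IsIntegralHom m := MorphismProperty.pullbackMap (P := @IsIntegralHom) ‹_› ‹_› rfl rfl
  have e : Limits.pullback.diagonal (p ≫ q) ≫ m = p ≫ Limits.pullback.diagonal q := by
    apply Limits.pullback.hom_ext <;> simp only [m, Limits.pullback.map, Category.assoc, Limits.pullback.lift_fst, Limits.pullback.lift_snd, Limits.pullback.diagonal_fst, Limits.pullback.diagonal_snd, Category.comp_id] <;> erw [← Category.assoc] <;> simp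
  have h : Set.range (Limits.pullback.diagonal q) = m '' Set.range (Limits.pullback.diagonal (p ≫ q)) := by
    rw [← Set.range_comp]
    refine (Function.Surjective.range_comp p.surjective _).symm.trans ?_
    exact congrArg Set.range (funext fun z => (congr($e z)).symm)
  rw [h]
  exact m.isClosedMap _ (Limits.pullback.diagonal (p ≫ q)).isClosedEmbedding.isClosed_range

include D in
/-- The Artin-Tate lemma: the quotient is locally of finite type over a locally Noetherian base. -/
theorem locallyOfFiniteType_hom [IsLocallyNoetherian S] [LocallyOfFiniteType U.hom] :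
    LocallyOfFiniteType D.Y.hom := by
  have := D.integral
  let p := D.p.left
  have hw : p ≫ D.Y.hom = U.hom := Over.w D.p
  have : LocallyOfFiniteType (p ≫ D.Y.hom) := by rw [hw]; infer_instance
  have : LocallyOfFiniteType p := locallyOfFiniteType_of_comp p D.Y.hom
  have : IsFinite p :=
    (IsFinite.iff_isIntegralHom_and_locallyOfFiniteType p).mpr ⟨inferInstance, inferInstance⟩
  have hmem : ∀ y : D.Y.left, ∃ (V : S.Opens) (A : D.Y.left.Opens), IsAffineOpen V ∧ IsAffineOpen A ∧
      y ∈ A ∧ A ≤ D.Y.hom ⁻¹ᵁ V ∧ Function.Injective (p.app A) := fun y => by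
    obtain ⟨O, hyO, hO⟩ := D.loc y
    obtain ⟨_, ⟨V, hV, rfl⟩, hyV, -⟩ :=
      S.isBasis_affineOpens.exists_subset_of_mem_open (Set.mem_univ (D.Y.hom y)) isOpen_univ
    obtain ⟨_, ⟨A : D.Y.left.Opens, hA, rfl⟩, hyA, hle⟩ := D.Y.left.isBasis_affineOpens.exists_subset_of_mem_open
      (show y ∈ (O ⊓ D.Y.hom ⁻¹ᵁ V : D.Y.left.Opens) from ⟨hyO, hyV⟩) (O ⊓ D.Y.hom ⁻¹ᵁ V).2
    have : IsAffine A.toScheme := hA
    have hq := hO A.toScheme A.ι (by rw [Scheme.Opens.range_ι]; exact fun z hz => (hle hz).1)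
    refine ⟨V, A, hV, hA, hyA, fun z hz => (hle hz).2, ?_⟩
    have hinj : Function.Injective (p ∣_ A).appTop := by
      rw [show p ∣_ A = (pullbackRestrictIsoRestrict p A).inv ≫ pullback.snd p A.ι by
        rw [Iso.eq_inv_comp]; exact pullbackRestrictIsoRestrict_hom_morphismRestrict p A,
        Scheme.Hom.comp_appTop]
      exact (ConcreteCategory.bijective_of_isIso (pullbackRestrictIsoRestrict p A).inv.appTop).1.comp hq.inj
    intro a b hab
    have e := H13Grpd.morphismRestrict_appTop_topIso p A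
    have h1 : ∀ c, (p ⁻¹ᵁ A).topIso.hom ((p ∣_ A).appTop c) = p.app A (A.topIso.hom c) := fun c =>
      congr($e c)
    obtain ⟨a, rfl⟩ := (ConcreteCategory.bijective_of_isIso A.topIso.hom).2 a
    obtain ⟨b, rfl⟩ := (ConcreteCategory.bijective_of_isIso A.topIso.hom).2 b
    rw [← h1, ← h1] at hab
    rw [hinj ((ConcreteCategory.bijective_of_isIso (p ⁻¹ᵁ A).topIso.hom).1 hab)]
  choose V A hV hA hyA hAV hinj using hmem
  refine (IsZariskiLocalAtSource.iff_of_iSup_eq_top (P := @LocallyOfFiniteType) A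
    (top_le_iff.1 fun y _ => TopologicalSpace.Opens.mem_iSup.2 ⟨y, hyA y⟩)).2 fun y => ?_
  rw [← Scheme.Hom.resLE_comp_ι D.Y.hom (hAV y)]
  suffices h : LocallyOfFiniteType (D.Y.hom.resLE (V y) (A y) (hAV y)) by infer_instance
  have : IsAffine (A y).toScheme := hA y
  have : IsAffine (V y).toScheme := hV y
  rw [HasRingHomProperty.iff_of_isAffine (P := @LocallyOfFiniteType)]
  have e := H13Grpd.resLE_appTop_topIso D.Y.hom (V y) (A y) (hAV y)
  have := RingHom.toMorphismProperty_respectsIso_iff.1 RingHom.finiteType_respectsIso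
  refine ((RingHom.toMorphismProperty RingHom.FiniteType).arrow_mk_iso_iff
    (Arrow.isoMk (V y).topIso (A y).topIso e.symm)).2 ?_
  change (D.Y.hom.appLE (V y) (A y) (hAV y)).hom.FiniteType
  haveI : IsNoetherianRing Γ(S, V y) := IsLocallyNoetherian.component_noetherian ⟨V y, hV y⟩
  have hle : p ⁻¹ᵁ A y ≤ (p ≫ D.Y.hom) ⁻¹ᵁ V y := fun z hz => hAV y hz
  have h1 : ((p ≫ D.Y.hom).appLE (V y) (p ⁻¹ᵁ A y) hle).hom.FiniteType :=
    LocallyOfFiniteType.finiteType_appLE _ (hV y) ((hA y).preimage p) _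
  have h2 : (p.app (A y)).hom.Finite := IsFinite.finite_app (f := p) (A y) (hA y)
  let g := (D.Y.hom.appLE (V y) (A y) (hAV y)).hom
  let h := (p.app (A y)).hom
  have hc : ((p ≫ D.Y.hom).appLE (V y) (p ⁻¹ᵁ A y) hle).hom = h.comp g := by
    rw [← Scheme.Hom.appLE_comp_appLE p D.Y.hom (V y) (A y) (p ⁻¹ᵁ A y) (hAV y) le_rfl,
      Scheme.Hom.appLE_eq_app]
    rfl
  rw [hc] at h1
  letI := g.toAlgebra
  letI := h.toAlgebra
  letI := (h.comp g).toAlgebra
  haveI : IsScalarTower Γ(S, V y) Γ(D.Y.left, A y) Γ(U.left, p ⁻¹ᵁ A y) :=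
    IsScalarTower.of_algebraMap_eq fun _ => rfl
  exact ⟨fg_of_fg_of_fg Γ(S, V y) Γ(D.Y.left, A y) Γ(U.left, p ⁻¹ᵁ A y) h1.out (by exact h2.1)
    (hinj y)⟩

end WNAData

end Groth.Agent.H14KM
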