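import Groth.Agent.H14KM.WNAQuot
import Groth.Agent.H14AlgSt.WellNighSep
import Groth.Agent.H14AlgSt.Diag2
import Groth.Agent.H14AlgSt.DiagGen

/-!
# The map to the coarse moduli space of a well-nigh affine stack is separated
-/

set_option autoImplicit false
set_option backward.isDefEq.respectTransparency false
set_option backward.isDefEq.respectTransparency.types false

universe u

open CategoryTheory CategoryTheory.Functor Opposite AlgebraicGeometry CategoryTheory.Limits

noncomputable section

namespace Groth.Agent.H14KM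

open H14Fib H14Stk H14AlgSt

/-- A map from a stack separated over the base to an affine scheme is separated. -/
theorem isSeparatedMor_to_affine {S : Scheme.{u}} {𝒳 : AlgSt.Cat S}
    (h𝒳 : AlgSt.IsAlgStack Scheme.fppfPrecoverage 𝒳) (hs : AlgSt.IsSeparatedOver 𝒳) (Y : Over S)
    [IsAffine Y.left] (π : 𝒳 ⥤ᵇ AlgSt.ofSch Y) : AlgSt.IsSeparatedMor π := by
  have : IsSeparated Y.hom := inferInstance
  have hY := H14AlgSt.isAlgStack_ofSp (S := S) ⟨_, AlgSp.IsAlgSpace.yon_obj Y⟩
  have h1 : AlgSt.RepByAlgSpWith AlgSp.IsSeparatedMor (FibCat.toSelf (AlgSt.ofSch Y)) := by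
    rw [← comp_toSelf (AlgSt.toOverCat Y)]
    exact (repWith_equiv_comp_iff (toOverCat_isEquivOver Y)).1 (repWith_separated_toSelf_overCat Y)
  have h2 := (repWith_diag_iff_diagonal @IsClosedImmersion (repByAlgSp1_of_with h1)).2 h1
  refine repWith_diag_cancel baseStable_proper
    (fun _ _ _ hX hY hZ _ _ hb hab => H12AlgSp.isProperMor_of_comp hX hY hZ hab hb)
    h𝒳.isStack.1 hY.isStack.1 (rep1_diag_of_algStack h𝒳 hY π)
    (repWith_mono (fun _ _ hG h =>
      (H12AlgSp.isProperMor_of_isClosedImmersion hG h).1) h2) ?_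
  rw [comp_toSelf]
  exact hs

end Groth.Agent.H14KM
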