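import Groth.Agent.H14KM.WNAQuot
import Groth.Agent.H14AlgSt.PointsMor
import Groth.Agent.H14AlgSt.QC
import Groth.Agent.H14Fib.Fp

/-!
# The map to the coarse moduli space of a well-nigh affine stack is quasi-compact and a universal
homeomorphism
-/

set_option autoImplicit false
set_option backward.isDefEq.respectTransparency false
set_option backward.isDefEq.respectTransparency.types false

universe u

open CategoryTheory CategoryTheory.Functor Opposite AlgebraicGeometry CategoryTheory.Limits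
open AlgSp (yon J)

noncomputable section

namespace Groth.Agent.H14KM

open H14Fib H14Stk H14AlgSt
open H14LocalCat (secMor secMor_natural)

local notation "K₀" => Scheme.fppfPrecoverage

namespace WNAData

variable {S : Scheme.{u}} {𝒳 : AlgSt.Cat S} {U : Over S} {x : FibCat.overCat U ⥤ᵇ 𝒳} (D : WNAData x)

lemma secAt_xo {W : Over S} (a : W ⟶ U) :
    (secAt D.π (xo x a)).down = eqToHom (xo_obj x a) ≫ a ≫ D.p := by
  have h1 : secMor D.π (xo x a) =
      (yon S).map (eqToHom (xo_obj x a) ≫ a ≫ D.p) := by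
    rw [Functor.map_comp, Functor.map_comp, ← D.chartSec_π, map_chartSec, ← Category.assoc,
      ← Functor.map_comp, eqToHom_trans, eqToHom_refl, CategoryTheory.Functor.map_id,
      Category.id_comp]
  have h2 := congrArg (J S).uliftYonedaEquiv h1
  rw [secMor, Equiv.apply_symm_apply] at h2
  rw [h2]
  exact congrArg ULift.down (GrothendieckTopology.uliftYonedaEquiv_uliftYoneda_map (J := J S) _)

/-- Points of the quotient over algebraically closed fields lift to the chart. -/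
lemma exists_lift_point {Ω : Type u} [Field Ω] [IsAlgClosed Ω]
    {t : Spec (CommRingCat.of Ω) ⟶ S} (q : Over.mk t ⟶ D.Y) : ∃ w : Over.mk t ⟶ U, w ≫ D.p = q := by
  have := D.integral
  have hs : ∀ y, y ∈ Set.range D.p.left := D.surjP.surj
  obtain ⟨z, hz⟩ := hs (q.left (IsLocalRing.closedPoint Ω))
  obtain ⟨c, hc, -⟩ := exists_point_lift D.p.left q.left z hz
  exact ⟨Over.homMk c (by rw [← Over.w D.p, ← Category.assoc, hc]; exact Over.w q),
    Over.OverMorphism.ext hc⟩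

variable {𝒵 : AlgSt.Cat S} (g : 𝒵 ⥤ᵇ AlgSt.ofSch D.Y)

/-- The map to the quotient of an object. -/
def secG (z : 𝒵.obj) : 𝒵.p.obj z ⟶ D.Y := (secAt g z).down

lemma secG_natural {z z' : 𝒵.obj} (b : z' ⟶ z) : 𝒵.p.map b ≫ D.secG g z = D.secG g z' :=
  congrArg ULift.down (secAt_natural g b)

/-- The object of the base change of an object and a compatible point of the chart. -/
def obW (z : 𝒵.obj) (a : 𝒵.p.obj z ⟶ U) (h : a ≫ D.p = D.secG g z) : (FibCat.fp g D.π).obj :=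
  ⟨{ fst := z
     snd := xo x a
     iso := H14Stk.eltIso (((g.w_obj z).trans (xo_obj x a).symm).trans (D.π.w_obj (xo x a)).symm) (by
      rw [H14Stk.sec_eq D.π (xo x a), H14Stk.sec_eq g z, H14Stk.pmap_comp]
      apply ULift.down_injective
      change (eqToHom (((g.w_obj z).trans (xo_obj x a).symm).trans (D.π.w_obj (xo x a)).symm) ≫
        eqToHom (D.π.w_obj (xo x a))) ≫ (secAt D.π (xo x a)).down =
          eqToHom (g.w_obj z) ≫ D.secG g z
      rw [D.secAt_xo, ← h, eqToHom_trans, eqToHom_trans_assoc]) },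
   IsHomLift.of_fac' _ _ _ (g.w_obj z) ((D.π.w_obj _).trans (xo_obj x a)) (by
    change eqToHom (((g.w_obj z).trans (xo_obj x a).symm).trans (D.π.w_obj (xo x a)).symm) = _
    simp)⟩

lemma compatW (ω : (FibCat.fp g D.π).obj) {z' : 𝒵.obj} (b : z' ⟶ ω.obj.fst) (a : 𝒵.p.obj z' ⟶ U)
    (hl : IsChartLift x ω.obj.snd (𝒵.p.map b ≫ eqToHom (H14Fib.fp_snd_obj ω).symm) a) :
    a ≫ D.p = D.secG g z' := by
  obtain ⟨m, hm⟩ := hl
  have h1 := congrArg ULift.down (secAt_natural D.π m)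
  rw [D.secAt_xo, show 𝒳.p.map m = eqToHom (xo_obj x a) ≫
      (𝒵.p.map b ≫ eqToHom (H14Fib.fp_snd_obj ω).symm) by
    rw [@IsHomLift.fac' _ _ _ _ 𝒳.p _ _ _ _
      (𝒵.p.map b ≫ eqToHom (H14Fib.fp_snd_obj ω).symm) m hm]
    simp] at h1
  change (eqToHom (xo_obj x a) ≫ _) ≫ (secAt D.π ω.obj.snd).down = _ at h1
  rw [Category.assoc, cancel_epi] at h1
  have h4 := ω.obj.iso.hom.map_sec
  rw [show ω.obj.iso.hom.hom = eqToHom (g.w_obj ω.obj.fst) ≫ 𝟙 _ ≫
      eqToHom ((H14Fib.fp_snd_obj ω).symm.trans (D.π.w_obj ω.obj.snd).symm) from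
    @IsHomLift.fac' _ _ _ _ _ _ _ _ _ _ _ ω.property, H14Stk.sec_eq D.π, H14Stk.sec_eq g,
    H14Stk.pmap_comp] at h4
  have h6 := congrArg ULift.down h4
  change ((eqToHom (g.w_obj ω.obj.fst) ≫ 𝟙 _ ≫
      eqToHom ((H14Fib.fp_snd_obj ω).symm.trans (D.π.w_obj ω.obj.snd).symm)) ≫
        eqToHom (D.π.w_obj ω.obj.snd)) ≫ (secAt D.π ω.obj.snd).down =
    eqToHom (g.w_obj ω.obj.fst) ≫ D.secG g ω.obj.fst at h6
  simp only [Category.id_comp, eqToHom_trans] at h6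
  rw [← h1, ← D.secG_natural g b, Category.assoc]
  congr 1
  rw [← cancel_epi (eqToHom (g.w_obj ω.obj.fst)), ← h6, eqToHom_trans_assoc]

lemma exists_obWHom (ω : (FibCat.fp g D.π).obj) {z' : 𝒵.obj} (b : z' ⟶ ω.obj.fst)
    (a : 𝒵.p.obj z' ⟶ U)
    (hl : IsChartLift x ω.obj.snd (𝒵.p.map b ≫ eqToHom (H14Fib.fp_snd_obj ω).symm) a)
    (h : a ≫ D.p = D.secG g z') : Nonempty (D.obW g z' a h ⟶ ω) := by
  obtain ⟨m, hm⟩ := hl
  have hw : g.map b ≫ ω.obj.iso.hom = (D.obW g z' a h).obj.iso.hom ≫ D.π.map m := by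
    apply Stk.EltObj.hom_ext
    have h1 : ω.obj.iso.hom.hom = eqToHom (g.w_obj ω.obj.fst) ≫ 𝟙 _ ≫
        eqToHom ((H14Fib.fp_snd_obj ω).symm.trans (D.π.w_obj ω.obj.snd).symm) :=
      @IsHomLift.fac' _ _ _ _ _ _ _ _ _ _ _ ω.property
    have h3 : 𝒳.p.map m = eqToHom (xo_obj x a) ≫
        (𝒵.p.map b ≫ eqToHom (H14Fib.fp_snd_obj ω).symm) := by
      rw [@IsHomLift.fac' _ _ _ _ 𝒳.p _ _ _ _
        (𝒵.p.map b ≫ eqToHom (H14Fib.fp_snd_obj ω).symm) m hm]
      simp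
    change (g.map b).hom ≫ ω.obj.iso.hom.hom =
      eqToHom (((g.w_obj z').trans (xo_obj x a).symm).trans (D.π.w_obj (xo x a)).symm) ≫
        (D.π.map m).hom
    rw [h1, H14Stk.map_hom_eq g b, H14Stk.map_hom_eq D.π m, h3]
    simp
  exact ⟨H14Fib.fpHom (x := D.obW g z' a h) b m hw⟩

/-- Over an algebraically closed field every object of the base change is a standard one. -/
lemma exists_obW_hom (ω : (FibCat.fp g D.π).obj) {z' : 𝒵.obj} (b : z' ⟶ ω.obj.fst) {L : Type u}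
    [Field L] [IsAlgClosed L] {t : Spec (CommRingCat.of L) ⟶ S} (hz : 𝒵.p.obj z' = Over.mk t) :
    ∃ (a : 𝒵.p.obj z' ⟶ U) (h : a ≫ D.p = D.secG g z'), Nonempty (D.obW g z' a h ⟶ ω) := by
  let c : Over.mk t ⟶ 𝒳.p.obj ω.obj.snd :=
    eqToHom hz.symm ≫ 𝒵.p.map b ≫ eqToHom (H14Fib.fp_snd_obj ω).symm
  have := isFibered_of_fibGrpd D.fibGrpd
  obtain ⟨ξ', χ, hχ⟩ := H14Fib.isFibered_exists_sc 𝒳.p (rfl : 𝒳.p.obj ω.obj.snd = _) c
  have hξ : 𝒳.p.obj ξ' = Over.mk t := @IsHomLift.domain_eq _ _ _ _ 𝒳.p _ _ _ _ c χ hχ.toIsHomLift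
  obtain ⟨w, hw⟩ := D.exists_lift_geom ⟨ξ', hξ⟩
  have h1 := hw.map χ
  have e1 : eqToHom hξ.symm ≫ 𝒳.p.map χ = c := by
    rw [@IsHomLift.fac' _ _ _ _ 𝒳.p _ _ _ _ c χ hχ.toIsHomLift]
    simp
  rw [e1] at h1
  have h2 := h1.comp (eqToHom hz)
  simp only [c, eqToHom_trans_assoc, eqToHom_refl, Category.id_comp] at h2
  exact ⟨_, D.compatW g ω b _ h2, D.exists_obWHom g ω b _ h2 (D.compatW g ω b _ h2)⟩

/-- Standard objects over an algebraically closed field are isomorphic. -/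
lemma exists_obW_hom_of_eq {z' : 𝒵.obj} {L : Type u} [Field L] [IsAlgClosed L]
    {t : Spec (CommRingCat.of L) ⟶ S} (hz : 𝒵.p.obj z' = Over.mk t) (a₁ a₂ : 𝒵.p.obj z' ⟶ U)
    (h₁ : a₁ ≫ D.p = D.secG g z') (h₂ : a₂ ≫ D.p = D.secG g z') :
    Nonempty (D.obW g z' a₁ h₁ ⟶ D.obW g z' a₂ h₂) := by
  have e : (eqToHom hz.symm ≫ a₁) ≫ D.p = (eqToHom hz.symm ≫ a₂) ≫ D.p := by
    rw [Category.assoc, Category.assoc, h₁, h₂]
  obtain ⟨r, hr1, hr2⟩ := D.trans L (eqToHom hz.symm ≫ a₁).left (eqToHom hz.symm ≫ a₂).left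
    (congrArg (fun k => k.left) e)
  let k₀ : Over.mk t ⟶ D.R := Over.homMk r (by
    rw [← Over.w D.ρ.s, ← Category.assoc, hr1]; exact Over.w (eqToHom hz.symm ≫ a₁))
  let k : 𝒵.p.obj z' ⟶ D.R := eqToHom hz ≫ k₀
  have e1 : (Arr.pull D.fibGrpd k D.ρ).s = a₁ := by
    rw [Arr.pull_s, Category.assoc, show k₀ ≫ D.ρ.s = eqToHom hz.symm ≫ a₁ from
      Over.OverMorphism.ext hr1]
    simp
  have e2 : (Arr.pull D.fibGrpd k D.ρ).t = a₂ := by
    rw [Arr.pull_t, Category.assoc, show k₀ ≫ D.ρ.t = eqToHom hz.symm ≫ a₂ from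
      Over.OverMorphism.ext hr2]
    simp
  generalize Arr.pull D.fibGrpd k D.ρ = A at e1 e2
  refine D.exists_obWHom g (D.obW g z' a₂ h₂) (𝟙 z') a₁ ?_ h₁
  obtain ⟨s₀, t₀, φ₀, hφ⟩ := A
  dsimp at e1 e2
  subst e1 e2
  refine ⟨φ₀, ?_⟩
  have := homLift_comp' hφ (IsHomLift.of_fac' 𝒳.p (eqToHom (xo_obj x t₀).symm) (𝟙 (xo x t₀))
    (xo_obj x t₀) rfl (by simp))
  simp only [CategoryTheory.Functor.map_id, Category.id_comp, Category.comp_id] at this ⊢
  exact this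

variable (hZ : AlgSt.IsAlgStack K₀ 𝒵)

include hZ in
lemma exists_algClosed_hom (r : AlgSt.FPt 𝒵) :
    ∃ (L : Type u) (_ : Field L) (_ : IsAlgClosed L)
      (t : Spec (CommRingCat.of L) ⟶ S) (z' : 𝒵.obj),
      𝒵.p.obj z' = Over.mk t ∧ Nonempty (z' ⟶ r.obj) := by
  let L := AlgebraicClosure r.K
  let i : Spec (CommRingCat.of L) ⟶ Spec (CommRingCat.of r.K) :=
    Spec.map (CommRingCat.ofHom (algebraMap r.K L))
  have := H14Fib.isFibered_of_fibGrpd hZ.isStack.1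
  obtain ⟨z', χ, hχ⟩ := H14Fib.isFibered_exists_sc 𝒵.p r.lies
    (Over.homMk i rfl : Over.mk (i ≫ r.str) ⟶ Over.mk r.str)
  exact ⟨L, inferInstance, inferInstance, _, z', @IsHomLift.domain_eq _ _ _ _ 𝒵.p _ _ _ _
    (Over.homMk i rfl : Over.mk (i ≫ r.str) ⟶ Over.mk r.str) χ hχ.toIsHomLift, ⟨χ⟩⟩

include hZ in
lemma surjective_fpFst : Function.Surjective (AlgSt.Points.map (FibCat.fpFst g D.π)) := by
  intro y
  obtain ⟨r, rfl⟩ := AlgSt.Points.mk_surjective y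
  obtain ⟨L, _, _, t, z', hz, ⟨d⟩⟩ := exists_algClosed_hom hZ r
  obtain ⟨w, hw⟩ := D.exists_lift_point (eqToHom hz.symm ≫ D.secG g z')
  have h : (eqToHom hz ≫ w) ≫ D.p = D.secG g z' := by
    rw [Category.assoc, hw]
    simp
  exact ⟨AlgSt.Points.mk ⟨L, t, D.obW g z' (eqToHom hz ≫ w) h, hz⟩,
    H14AlgSt.mk_eq_of_hom (p := ⟨L, t, z', hz⟩) (q := r) d⟩

include hZ in
lemma injective_fpFst : Function.Injective (AlgSt.Points.map (FibCat.fpFst g D.π)) := by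
  intro w₁ w₂ e
  obtain ⟨p₁, rfl⟩ := AlgSt.Points.mk_surjective w₁
  obtain ⟨p₂, rfl⟩ := AlgSt.Points.mk_surjective w₂
  obtain ⟨r, a₁, a₂, -⟩ := H14AlgSt.rel_of_mk_eq hZ.isStack.1 e
  obtain ⟨L, _, _, t, z', hz, ⟨d⟩⟩ := exists_algClosed_hom hZ r
  obtain ⟨x₁, h₁, ⟨m₁⟩⟩ := D.exists_obW_hom g p₁.obj (d ≫ a₁) hz
  obtain ⟨x₂, h₂, ⟨m₂⟩⟩ := D.exists_obW_hom g p₂.obj (d ≫ a₂) hz
  obtain ⟨m⟩ := D.exists_obW_hom_of_eq g hz x₂ x₁ h₂ h₁
  exact (H14AlgSt.mk_eq_of_hom (p := ⟨L, t, D.obW g z' x₂ h₂, hz⟩) (q := p₁) (m ≫ m₁)).symm.trans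
    (H14AlgSt.mk_eq_of_hom (p := ⟨L, t, D.obW g z' x₂ h₂, hz⟩) (q := p₂) m₂)

include hZ in
/-- A surjective chart of the base change above a surjective chart. -/
lemma exists_pullback_chart {T : Over S} (z : FibCat.overCat T ⥤ᵇ 𝒵)
    (hz : Function.Surjective (AlgSt.Points.ofChart z)) :
    ∃ (T' : Over S) (k : FibCat.overCat T' ⥤ᵇ FibCat.fp g D.π) (pr : T' ⟶ T),
      IsIntegralHom pr.left ∧ Surjective pr.left ∧
      Function.Surjective (AlgSt.Points.ofChart k) ∧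
      ∀ s, AlgSt.Points.map (FibCat.fpFst g D.π) (AlgSt.Points.ofChart k s) =
        AlgSt.Points.ofChart z (pr.left s) := by
  have := D.integral
  have hW : AlgSt.IsAlgStack K₀ (FibCat.fp g D.π) :=
    H14AlgSt.isAlgStack_fp' hZ D.stack
      (H14AlgSt.isAlgStack_ofSp ⟨_, AlgSp.IsAlgSpace.yon_obj D.Y⟩) g D.π
  let zT := z.obj (H14Fib.topObj T)
  have hzT : 𝒵.p.obj zT = T := z.w_obj _
  let τ : T ⟶ D.Y := eqToHom hzT.symm ≫ D.secG g zT
  let q := D.p.left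
  let T' : Over S := Over.mk (pullback.fst τ.left q ≫ T.hom)
  let prT : T' ⟶ T := Over.homMk (pullback.fst τ.left q) rfl
  let prX : T' ⟶ U := Over.homMk (pullback.snd τ.left q) (by
    change pullback.snd τ.left q ≫ U.hom = pullback.fst τ.left q ≫ T.hom
    rw [← Over.w D.p, ← Over.w τ, ← Category.assoc, ← Category.assoc, pullback.condition])
  have hpr : prX ≫ D.p = prT ≫ τ := Over.OverMorphism.ext pullback.condition.symm
  let zT' := z.obj ((AlgSt.overMap prT).obj (H14Fib.topObj T'))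
  have hzT' : 𝒵.p.obj zT' = T' := z.w_obj _
  have hτ : D.secG g zT' = eqToHom hzT' ≫ prT ≫ τ := by
    let n : (AlgSt.overMap prT).obj (H14Fib.topObj T') ⟶ H14Fib.topObj T :=
      H14Fib.toTop _
    have h1 := D.secG_natural g (z.map n)
    have h2 : 𝒵.p.map (z.map n) = eqToHom hzT' ≫ n.left ≫ eqToHom hzT.symm :=
      Functor.congr_hom z.w n
    rw [← h1, h2, show n.left = prT from Category.id_comp _]
    simp [τ, zT]
  have hx : (eqToHom hzT' ≫ prX) ≫ D.p = D.secG g zT' := by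
    rw [hτ, Category.assoc]
    exact congrArg (eqToHom hzT' ≫ ·) hpr
  have := H14Fib.isFibered_of_fibGrpd hW.isStack.1
  obtain ⟨k, i, hk, hi⟩ :=
    H14Fib.exists_fromOver (x := D.obW g zT' (eqToHom hzT' ≫ prX) hx) (U := T') hzT'
  have hg := hZ.isStack.1
  let e : BasedFunctor.comp k (FibCat.fpFst g D.π) ≅ BasedFunctor.comp (AlgSt.overMap prT) z :=
    H14Fib.isoOfTop (H14Fib.topSC_of_fibGrpd hg _) (H14Fib.topSC_of_fibGrpd hg _)
      ((FibCat.fpFst g D.π).toFunctor.mapIso i) (H14Fib.fp_isHomLift_fst (𝟙 T') i.hom)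
  have hpk : ∀ s, AlgSt.Points.map (FibCat.fpFst g D.π) (AlgSt.Points.ofChart k s) =
      AlgSt.Points.ofChart z (prT.left s) := fun s => by
    rw [← H14AlgSt.ofChart_comp, H14AlgSt.ofChart_iso e, H14AlgSt.ofChart_eq_map,
      H14AlgSt.points_map_comp, H14AlgSt.map_eq_ofChart, H14AlgSt.chartPoint_overMap,
      H14AlgSt.chartPoint_ofChart]
  have hqs : Surjective q := D.surjP
  have hsT : Surjective prT.left := MorphismProperty.pullback_fst _ _ hqs
  refine ⟨T', k, prT, MorphismProperty.pullback_fst _ _ ‹_›, hsT, fun w => ?_, hpk⟩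
  obtain ⟨s, hs⟩ := hz (AlgSt.Points.map (FibCat.fpFst g D.π) w)
  obtain ⟨s', rfl⟩ := prT.left.surjective s
  exact ⟨s', D.injective_fpFst g hZ ((hpk s').trans hs)⟩

include hZ in
lemma isClosedMap_fpFst : IsClosedMap (AlgSt.Points.map (FibCat.fpFst g D.π)) := by
  intro C hC
  obtain ⟨T, z, hz, hzs⟩ := hZ.atlas
  have hopen : IsOpenMap (AlgSt.Points.ofChart z) := H14AlgSt.isOpenMap_ofChart hZ.isStack.1
    (H14AlgSt.repWith_mono (fun _ _ _ h => H12AlgSp.locP_mono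
      (fun _ _ g (_ : Smooth g) => (inferInstance : Flat g)) h) hz)
    (H14AlgSt.repWith_mono (fun _ _ _ h => H12AlgSp.locP_mono
      (fun _ _ g (_ : Smooth g) => (inferInstance : LocallyOfFinitePresentation g)) h) hz)
  have hsz := H14AlgSt.ofChart_surjective hZ.isStack.1 hzs
  rw [← (hopen.isQuotientMap (H14AlgSt.continuous_ofChart hZ z) hsz).isClosed_preimage]
  obtain ⟨T', k, pr, h1, h2, -, hpk⟩ := D.exists_pullback_chart g hZ z hsz
  have hW : AlgSt.IsAlgStack K₀ (FibCat.fp g D.π) :=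
    H14AlgSt.isAlgStack_fp' hZ D.stack
      (H14AlgSt.isAlgStack_ofSp ⟨_, AlgSp.IsAlgSpace.yon_obj D.Y⟩) g D.π
  have e1 : AlgSt.Points.ofChart z ⁻¹' (AlgSt.Points.map (FibCat.fpFst g D.π) '' C) =
      pr.left '' (AlgSt.Points.ofChart k ⁻¹' C) := by
    ext s
    constructor
    · rintro ⟨c, hc, e⟩
      obtain ⟨s', rfl⟩ := pr.left.surjective s
      refine ⟨s', ?_, rfl⟩
      change AlgSt.Points.ofChart k s' ∈ C
      rwa [D.injective_fpFst g hZ ((hpk s').trans e.symm)]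
    · rintro ⟨s', hs', rfl⟩
      exact ⟨_, hs', hpk s'⟩
  rw [e1]
  exact pr.left.isClosedMap _ (hC.preimage (H14AlgSt.continuous_ofChart hW k))

/-- The map to the coarse space is a universal homeomorphism. -/
theorem isUnivHomeo : AlgSt.IsUnivHomeo K₀ D.π := by
  intro 𝒲 hW g
  rw [isHomeomorph_iff_continuous_isClosedMap_bijective]
  exact ⟨H14AlgSt.continuous_points_map hW _, D.isClosedMap_fpFst g hW,
    D.injective_fpFst g hW, D.surjective_fpFst g hW⟩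

/-- The map to the coarse space is quasi-compact. -/
theorem isQuasiCompactMor : AlgSt.IsQuasiCompactMor K₀ D.π := by
  intro 𝒲 hW hqc g
  obtain ⟨T, z, hT, hz, hzs⟩ := hqc
  have := hT
  obtain ⟨T', k, pr, h1, h2, h3, -⟩ :=
    D.exists_pullback_chart g hW z (H14AlgSt.ofChart_surjective hW.isStack.1 hzs)
  have : IsAffine T'.left := isAffine_of_isAffineHom pr.left
  have hfp : AlgSt.IsAlgStack K₀ (FibCat.fp g D.π) :=
    H14AlgSt.isAlgStack_fp' hW D.stack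
      (H14AlgSt.isAlgStack_ofSp ⟨_, AlgSp.IsAlgSpace.yon_obj D.Y⟩) g D.π
  refine H14AlgSt.isQuasiCompact_of_surjective (H14AlgSt.isAlgStack_overCat T') hfp
    (H14AlgSt.isQuasiCompact_overCat T') k fun w => ?_
  obtain ⟨s, rfl⟩ := h3 w
  exact ⟨_, (H14AlgSt.ofChart_eq_map k s).symm⟩

end WNAData

end Groth.Agent.H14KM
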