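import Groth.Agent.H14KM.WNABC
import Groth.Agent.H14KM.WNATop
import Groth.Agent.H14AlgSt.LocQ5
import Groth.Agent.H14AlgSt.WellNighSep

/-!
# The quotient map of a finite locally free chart is separated, also after base change
-/

set_option autoImplicit false
set_option backward.isDefEq.respectTransparency false
set_option backward.isDefEq.respectTransparency.types false

universe u

open CategoryTheory CategoryTheory.Functor Opposite AlgebraicGeometry CategoryTheory.Limits
open AlgSp (yon J)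

noncomputable section

namespace Groth.Agent.H14KM

open H14Fib H14Stk H14AlgSt
open H14LocalCat (secMor secMor_natural secMor_ofSpMap)

local notation "K₀" => Scheme.fppfPrecoverage

namespace WNAData

variable {S : Scheme.{u}} {𝒳 : AlgSt.Cat S} {U : Over S} {x : FibCat.overCat U ⥤ᵇ 𝒳} (D : WNAData x)

/-- The composite of the chart with the quotient map is the projection. -/
lemma nonempty_chart_iso :
    Nonempty (BasedFunctor.comp (AlgSt.ofOverCat U) (AlgSt.ofSpMap ((yon S).map D.p)) ≅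
      BasedFunctor.comp x D.π) :=
  H14LocalCat.nonempty_iso fun o => by
    rw [← secMor_natural (BasedFunctor.comp x D.π) (Over.homMk o.hom : o ⟶ Over.mk (𝟙 U)),
      ← secMor_natural (BasedFunctor.comp (AlgSt.ofOverCat U) (AlgSt.ofSpMap ((yon S).map D.p)))
        (Over.homMk o.hom : o ⟶ Over.mk (𝟙 U)), secMor_ofSpMap,
      show secMor (BasedFunctor.comp x D.π) (Over.mk (𝟙 U)) = (yon S).map D.p from D.chartSec_π]
    congr 1

lemma repWith_separated_chart_π :
    AlgSt.RepByAlgSpWith AlgSp.IsSeparatedMor (BasedFunctor.comp x D.π) := by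
  have := D.integral
  have hr : AlgSp.RepWith @IsSeparated ((yon S).map D.p) :=
    (AlgSp.repWith_yon_map_iff @IsSeparated D.p).2 (inferInstanceAs (IsSeparated D.p.left))
  have h : AlgSt.RepByAlgSpWith AlgSp.IsSeparatedMor (AlgSt.ofSpMap ((yon S).map D.p)) :=
    repWith_ofSpMap_of_representable _ _ hr.rep fun _ _ _ _ _ sq =>
      H12AlgSp.isSeparatedMor_of_repWith (H12AlgSp.repWith_of_isPullback sq hr)
  obtain ⟨i⟩ := D.nonempty_chart_iso
  exact repWith_of_iso i ((repWith_equiv_comp_iff (ofOverCat_isEquivOver U)).1 h)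

/-- The map to the quotient is separated. -/
theorem isSeparatedMor_π : AlgSt.IsSeparatedMor D.π := by
  have hY := H14AlgSt.isAlgStack_ofSp (S := S) ⟨_, AlgSp.IsAlgSpace.yon_obj D.Y⟩
  have hR : AlgSt.RepByAlgSp (FibCat.fp x x) := repByAlgSp1_of_with D.finite U x
  have hr := repByAlgSp1_of_with D.repWith_separated_chart_π
  have hQ : AlgSt.RepByAlgSp (FibCat.fp (BasedFunctor.comp x D.π) (BasedFunctor.comp x D.π)) :=
    hr U (BasedFunctor.comp x D.π)
  refine repWith_diag_of_atlas' localFppf_proper baseStable_proper.sourceIsoInv D.π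
    (rep1_diag_of_algStack D.stack hY D.π) D.flat D.lfp D.surj ?_
  exact repWith_cancel baseStable_proper cancelsLeft_proper
    (isFibSetoid_of_rep hR).1 (isFibSetoid_of_rep hQ).1
    (g := FibCat.fpFst (BasedFunctor.comp x D.π) (BasedFunctor.comp x D.π))
    (repByAlgSp1_of_rep hR hQ _)
    (repWith_fpFst x (repWith_mono (fun _ hF hG h => isProperMor_of_isFiniteMor hF hG h) D.finite))
    (repWith_fpFst _ D.repWith_separated_chart_π)

variable {M' : AlgSp.Sp S} (g : M' ⟶ (yon S).obj D.Y)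

/-- The quotient map stays bijective on geometric points after base change. -/
theorem geomPtBij_bc : AlgSt.GeomPtBij (FibCat.fpFst (AlgSt.ofSpMap g) D.π) := by
  intro Ω _ _ t
  refine ⟨fun m => ?_, fun a b hab => ?_⟩
  · obtain ⟨y, rfl⟩ : ∃ y : (yon S).obj (Over.mk t) ⟶ M', (J S).uliftYonedaEquiv y = m :=
      ⟨_, (J S).uliftYonedaEquiv.apply_symm_apply m⟩
    obtain ⟨q, hq⟩ := (yon S).map_surjective (y ≫ g)
    obtain ⟨w, hw⟩ := D.exists_lift_point q
    have h : (yon S).map (w ≫ D.p) = y ≫ g := by rw [hw, hq]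
    refine ⟨⟨D.ob g w y h, rfl⟩, ?_⟩
    exact H14Stk.pmap_id _
  · obtain ⟨a, ha⟩ := a
    obtain ⟨b, hb⟩ := b
    let y : (yon S).obj (Over.mk t) ⟶ M' := (J S).uliftYonedaEquiv.symm (AlgSt.fibSec (FibCat.fpFst (AlgSt.ofSpMap g) D.π)
      (⟨a, ha⟩ : (D.bc g).p.Fiber (Over.mk t)))
    have key : ∀ (ω : (D.bc g).obj) (hω : (D.bc g).p.obj ω = Over.mk t),
        (J S).uliftYonedaEquiv.symm (AlgSt.fibSec (FibCat.fpFst (AlgSt.ofSpMap g) D.π)
          (⟨ω, hω⟩ : (D.bc g).p.Fiber (Over.mk t))) = y →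
        ∃ (w : Over.mk t ⟶ U) (h : (yon S).map (w ≫ D.p) = y ≫ g) (m : D.ob g w y h ⟶ ω),
          (D.bc g).p.IsHomLift (eqToHom hω.symm) m := by
      intro ω hω e
      let ξ : 𝒳.p.Fiber (Over.mk t) := ⟨ω.obj.snd, (H14Fib.fp_snd_obj ω).trans hω⟩
      obtain ⟨w, hw⟩ := D.exists_lift_geom ξ
      have hy : (yon S).map (eqToHom hω.symm) ≫ secMor (FibCat.fpFst (AlgSt.ofSpMap g) D.π) ω = y := by
        rw [← e]
        exact (fibSec_eq (FibCat.fpFst (AlgSt.ofSpMap g) D.π)
          (⟨ω, hω⟩ : (D.bc g).p.Fiber (Over.mk t))).symm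
      have h : (yon S).map (w ≫ D.p) = y ≫ g := by
        rw [← hy, Category.assoc, D.compat g ω, ← Category.assoc, ← Functor.map_comp,
          (yon S).map_comp w D.p, ← D.chartSec_π, ← map_chartSec_of_lift D.π hw, eqToHom_trans]
      obtain ⟨m, hm⟩ := D.exists_obHom g ω (eqToHom hω.symm) w (by simpa using hw) y hy h
      exact ⟨w, h, m, hm⟩
    have hya : (J S).uliftYonedaEquiv.symm (AlgSt.fibSec (FibCat.fpFst (AlgSt.ofSpMap g) D.π)
          (⟨a, ha⟩ : (D.bc g).p.Fiber (Over.mk t))) = y := rfl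
    obtain ⟨w, h, m, hm⟩ := key a ha hya
    obtain ⟨w', h', m', hm'⟩ := key b hb (congrArg _ hab.symm)
    have e : w ≫ D.p = w' ≫ D.p := (yon S).map_injective (h.trans h'.symm)
    obtain ⟨r, hr1, hr2⟩ := D.trans Ω w.left w'.left (congrArg (fun k => k.left) e)
    let g₀ : Over.mk t ⟶ D.R := Over.homMk r (by
      rw [← Over.w D.ρ.s, ← Category.assoc, hr1]; exact Over.w w)
    have e1 : (Arr.pull D.fibGrpd g₀ D.ρ).s = w :=
      (Arr.pull_s _ g₀ _).trans (Over.OverMorphism.ext hr1)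
    have e2 : (Arr.pull D.fibGrpd g₀ D.ρ).t = w' :=
      (Arr.pull_t _ g₀ _).trans (Over.OverMorphism.ext hr2)
    generalize Arr.pull D.fibGrpd g₀ D.ρ = A at e1 e2
    subst e1 e2
    obtain ⟨n, hn⟩ := D.exists_obHom g (D.ob g A.t y h') (𝟙 _) A.s
      (by erw [Category.id_comp]; exact isChartLift_arr A) y
      (by rw [CategoryTheory.Functor.map_id, Category.id_comp, secMor_fst_ob]) h
    have hP' : ∀ T : AlgSp.Sp S, FibCat.IsFibGrpd (AlgSt.ofSp T).p := fun T =>
      inferInstanceAs (FibCat.IsFibGrpd (Stk.EltObj.forget T.obj))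
    have hX : FibCat.IsFibGrpd (D.bc g).p := fp_fibGrpd (hP' M') D.fibGrpd (hP' _)
    have := isIso_of_fibGrpd hX (eqToHom ha.symm) m
    obtain ⟨i⟩ := nonempty_fiberIso hX (a := (⟨a, ha⟩ : (D.bc g).p.Fiber (Over.mk t)))
      (b := (⟨b, hb⟩ : (D.bc g).p.Fiber (Over.mk t))) (CategoryTheory.inv m ≫ n ≫ m') (by
        refine IsHomLift.of_fac' _ _ _ ha hb ?_
        have e1 := @IsHomLift.fac' _ _ _ _ (D.bc g).p _ _ _ _ _ m hm
        have e2 := @IsHomLift.fac' _ _ _ _ (D.bc g).p _ _ _ _ _ n hn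
        have e3 := @IsHomLift.fac' _ _ _ _ (D.bc g).p _ _ _ _ _ m' hm'
        rw [Functor.map_comp, Functor.map_comp, Functor.map_inv, e2, e3]
        rw [IsIso.inv_comp_eq, e1]
        simp)
    exact ⟨i⟩

theorem isCoarseModuli_bc (hM' : AlgSp.IsAlgSpace M') (hg : AlgSp.LocP @Flat g) :
    AlgSt.IsCoarseModuli (FibCat.fpFst (AlgSt.ofSpMap g) D.π) :=
  ⟨D.isCatModuli_bc g hM' hg, D.geomPtBij_bc g⟩

end WNAData

end Groth.Agent.H14KM
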